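import Cfsg.Agent.Lib.H34.TCLyB.Data
import Cfsg.Agent.Lib.H35.TC
set_option autoImplicit false
set_option maxRecDepth 100000
set_option linter.all false
namespace H34.TCLyB
open H35.TC
/-- letters -/
inductive Lt | a | ai | b | bi | c | ci | u | ui | v | vi | w | wi
  deriving DecidableEq
/-- inverse letter -/
def inv : Lt → Lt
  | .a => .ai
  | .ai => .a
  | .b => .bi
  | .bi => .b
  | .c => .ci
  | .ci => .c
  | .u => .ui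
  | .ui => .u
  | .v => .vi
  | .vi => .v
  | .w => .wi
  | .wi => .w
/-- table functions -/
noncomputable def T : Lt → ℕ → ℕ
  | .a => T_a
  | .ai => T_ai
  | .b => T_b
  | .bi => T_bi
  | .c => T_c
  | .ci => T_ci
  | .u => T_u
  | .ui => T_ui
  | .v => T_v
  | .vi => T_vi
  | .w => T_w
  | .wi => T_wi
/-- decoding of letter codes -/
def lt : ℕ → Lt
  | 0 => .a
  | 1 => .ai
  | 2 => .b
  | 3 => .bi
  | 4 => .c
  | 5 => .ci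
  | 6 => .u
  | 7 => .ui
  | 8 => .v
  | 9 => .vi
  | 10 => .w
  | _ => .wi
/-- Coxeter matrix (0: no relation) -/
def mm : Lt → Lt → ℕ
  | _, _ => 0
/-- extra relators `w ^ n` -/
def extra : List (List Lt × ℕ) := [
  ([.vi, .wi, .v, .w], 1),
  ([.bi, .w, .b, .wi], 1),
  ([.ui, .vi, .u, .v], 1),
  ([.ui, .wi, .u, .w], 1),
  ([.ci, .wi, .c, .w], 1),
  ([.v, .b, .ci, .bi], 1),
  ([.u, .ai, .ci, .a], 1),
  ([.w, .ui, .ci, .u, .c], 1),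
  ([.b], 5),
  ([.ai, .w, .a, .wi, .wi], 1),
  ([.ai, .u, .a, .c, .c], 1),
  ([.w], 5),
  ([.c], 5),
  ([.ai, .ai, .bi, .a, .a, .b], 1),
  ([.ci, .vi, .c, .v, .wi, .wi], 1),
  ([.bi, .ci, .b, .wi, .bi, .c, .b, .w], 1),
  ([.a], 8),
  ([.a, .b], 4),
  ([.ui, .bi, .ci, .b, .u, .bi, .c, .b, .w], 1),
  ([.bi, .ci, .b, .vi, .bi, .c, .b, .v, .w], 1),
  ([.ci, .bi, .ci, .b, .c, .bi, .c, .b, .w, .w], 1),
  ([.bi, .u, .b, .v, .c, .v, .bi, .ci, .b, .ui], 1),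
  ([.bi, .bi, .c, .b, .c, .c, .b, .vi, .ci, .ci], 1),
  ([.ai, .bi, .c, .b, .a, .vi, .ci, .bi, .c, .c, .b], 1),
  ([.ai, .v, .a, .vi, .ci, .vi, .bi, .c, .b, .u, .ci], 1),
  ([.ai, .bi, .a, .b], 3),
  ([.a, .ai], 1),
  ([.ai, .a], 1),
  ([.b, .bi], 1),
  ([.bi, .b], 1),
  ([.c, .ci], 1),
  ([.ci, .c], 1),
  ([.u, .ui], 1),
  ([.ui, .u], 1),
  ([.v, .vi], 1),
  ([.vi, .v], 1),
  ([.w, .wi], 1),
  ([.wi, .w], 1)]
/-- relators -/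
def rels : List (List Lt) := mkRels [] mm extra
/-- subgroup words -/
def subs : List (List Lt) := [
  [.a],
  [.b]]
noncomputable def dp_a_0 (j u : ℕ) : Bool :=
  Bool.rec (motive := fun _ => Bool) (lDef P (nat_lit 0) (Nat.mod (T_a u) M) u) (lF [T_w, T_w, T_ai, T_wi] M (Nat.sub (T_a u) (Nat.mod (T_a u) M)) (Nat.mod (T_a u) M) u) (Nat.ble (nat_lit 5) j)
noncomputable def dp_a_1 (j u : ℕ) : Bool :=
  Bool.rec (motive := fun _ => Bool) (lF [T_wi, T_wi, T_ai, T_w] M (Nat.sub (T_a u) (Nat.mod (T_a u) M)) (Nat.mod (T_a u) M) u) (lF [T_ci, T_ci, T_ai, T_ui] M (Nat.sub (T_a u) (Nat.mod (T_a u) M)) (Nat.mod (T_a u) M) u) (Nat.ble (nat_lit 8) j)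
noncomputable def dp_a_2 (j u : ℕ) : Bool :=
  Bool.rec (motive := fun _ => Bool) (lF [T_c, T_c, T_ai, T_u] M (Nat.sub (T_a u) (Nat.mod (T_a u) M)) (Nat.mod (T_a u) M) u) (dp_a_1 j u) (Nat.ble (nat_lit 7) j)
noncomputable def dp_a_3 (j u : ℕ) : Bool :=
  Bool.rec (motive := fun _ => Bool) (lS MG [T_ai] M (Nat.sub (T_a u) (Nat.mod (T_a u) M)) (nat_lit 40) (Nat.mod (T_a u) M) u) (lF [T_a, T_b, T_ai, T_ai, T_bi] M (Nat.sub (T_a u) (Nat.mod (T_a u) M)) (Nat.mod (T_a u) M) u) (Nat.ble (nat_lit 10) j)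
noncomputable def dp_a_4 (j u : ℕ) : Bool :=
  Bool.rec (motive := fun _ => Bool) (lF [T_a, T_bi, T_ai, T_ai, T_b] M (Nat.sub (T_a u) (Nat.mod (T_a u) M)) (Nat.mod (T_a u) M) u) (lF [T_b, T_ai, T_ai, T_bi, T_a] M (Nat.sub (T_a u) (Nat.mod (T_a u) M)) (Nat.mod (T_a u) M) u) (Nat.ble (nat_lit 12) j)
noncomputable def dp_a_5 (j u : ℕ) : Bool :=
  Bool.rec (motive := fun _ => Bool) (lF [T_bi, T_ai, T_ai, T_b, T_a] M (Nat.sub (T_a u) (Nat.mod (T_a u) M)) (Nat.mod (T_a u) M) u) (lS MG [T_u, T_ai, T_ci] M (Nat.sub (T_a u) (Nat.mod (T_a u) M)) (nat_lit 40) (Nat.mod (T_a u) M) u) (Nat.ble (nat_lit 14) j)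
noncomputable def dp_a_6 (j u : ℕ) : Bool :=
  Bool.rec (motive := fun _ => Bool) (lF [T_a, T_a, T_a, T_a, T_a, T_a, T_a] M (Nat.sub (T_a u) (Nat.mod (T_a u) M)) (Nat.mod (T_a u) M) u) (lS MG [T_ui, T_ai, T_c] M (Nat.sub (T_a u) (Nat.mod (T_a u) M)) (nat_lit 40) (Nat.mod (T_a u) M) u) (Nat.ble (nat_lit 16) j)
noncomputable def dp_a_7 (j u : ℕ) : Bool :=
  Bool.rec (motive := fun _ => Bool) (lS MG [T_wi, T_wi, T_ai, T_w] M (Nat.sub (T_a u) (Nat.mod (T_a u) M)) (nat_lit 40) (Nat.mod (T_a u) M) u) (lS MG [T_a, T_b, T_ai, T_ai, T_bi] M (Nat.sub (T_a u) (Nat.mod (T_a u) M)) (nat_lit 40) (Nat.mod (T_a u) M) u) (Nat.ble (nat_lit 18) j)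
noncomputable def dp_a_8 (j u : ℕ) : Bool :=
  Bool.rec (motive := fun _ => Bool) (lH [] [] M (Nat.sub (T_a u) (Nat.mod (T_a u) M)) (Nat.mod (T_a u) M) u) (lS MG [T_bi, T_ai, T_ai, T_b, T_a] M (Nat.sub (T_a u) (Nat.mod (T_a u) M)) (nat_lit 40) (Nat.mod (T_a u) M) u) (Nat.ble (nat_lit 20) j)
noncomputable def dp_a_9 (j u : ℕ) : Bool :=
  Bool.rec (motive := fun _ => Bool) (lS MG [T_c, T_c, T_ai, T_u] M (Nat.sub (T_a u) (Nat.mod (T_a u) M)) (nat_lit 40) (Nat.mod (T_a u) M) u) (lS MG [T_a, T_bi, T_ai, T_ai, T_b] M (Nat.sub (T_a u) (Nat.mod (T_a u) M)) (nat_lit 40) (Nat.mod (T_a u) M) u) (Nat.ble (nat_lit 23) j)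
noncomputable def dp_a_10 (j u : ℕ) : Bool :=
  Bool.rec (motive := fun _ => Bool) (lS MG [T_ci, T_ci, T_ai, T_ui] M (Nat.sub (T_a u) (Nat.mod (T_a u) M)) (nat_lit 40) (Nat.mod (T_a u) M) u) (dp_a_9 j u) (Nat.ble (nat_lit 22) j)
noncomputable def dp_a_11 (j u : ℕ) : Bool :=
  Bool.rec (motive := fun _ => Bool) (dp_a_8 j u) (dp_a_10 j u) (Nat.ble (nat_lit 21) j)
noncomputable def dp_a_12 (j u : ℕ) : Bool :=
  Bool.rec (motive := fun _ => Bool) (dp_a_7 j u) (dp_a_11 j u) (Nat.ble (nat_lit 19) j)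
noncomputable def dp_a_13 (j u : ℕ) : Bool :=
  Bool.rec (motive := fun _ => Bool) (dp_a_6 j u) (dp_a_12 j u) (Nat.ble (nat_lit 17) j)
noncomputable def dp_a_14 (j u : ℕ) : Bool :=
  Bool.rec (motive := fun _ => Bool) (dp_a_5 j u) (dp_a_13 j u) (Nat.ble (nat_lit 15) j)
noncomputable def dp_a_15 (j u : ℕ) : Bool :=
  Bool.rec (motive := fun _ => Bool) (dp_a_4 j u) (dp_a_14 j u) (Nat.ble (nat_lit 13) j)
noncomputable def dp_a_16 (j u : ℕ) : Bool :=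
  Bool.rec (motive := fun _ => Bool) (dp_a_3 j u) (dp_a_15 j u) (Nat.ble (nat_lit 11) j)
noncomputable def dp_a_17 (j u : ℕ) : Bool :=
  Bool.rec (motive := fun _ => Bool) (dp_a_2 j u) (dp_a_16 j u) (Nat.ble (nat_lit 9) j)
noncomputable def dp_a_18 (j u : ℕ) : Bool :=
  Bool.rec (motive := fun _ => Bool) (dp_a_0 j u) (dp_a_17 j u) (Nat.ble (nat_lit 6) j)
noncomputable def dp_a_19 (j u : ℕ) : Bool :=
  Bool.rec (motive := fun _ => Bool) (Bool.rec (motive := fun _ => Bool) (lF3 T_ui T_ai T_c M (Nat.sub (T_a u) (Nat.mod (T_a u) M)) (Nat.mod (T_a u) M) u) (lDef P (nat_lit 1) u (Nat.mod (T_a u) M)) (Nat.ble (nat_lit 3) j)) (dp_a_18 j u) (Nat.ble (nat_lit 4) j)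
noncomputable def disp_a (j u : ℕ) : Bool :=
  Bool.rec (motive := fun _ => Bool) (Bool.rec (motive := fun _ => Bool) (lF1 T_ai M (Nat.sub (T_a u) (Nat.mod (T_a u) M)) (Nat.mod (T_a u) M) u) (lF3 T_u T_ai T_ci M (Nat.sub (T_a u) (Nat.mod (T_a u) M)) (Nat.mod (T_a u) M) u) (Nat.ble (nat_lit 1) j)) (dp_a_19 j u) (Nat.ble (nat_lit 2) j)
noncomputable def chk_a (j u : ℕ) : Bool :=
  Bool.rec (motive := fun _ => Bool) (disp_a j u) (Nat.ble (Nat.succ (MG u)) A) (Nat.ble A (T_a u))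
noncomputable def dp_ai_0 (j u : ℕ) : Bool :=
  Bool.rec (motive := fun _ => Bool) (lDef P (nat_lit 0) u (Nat.mod (T_ai u) M)) (lF [T_u, T_a, T_c, T_c] M (Nat.sub (T_ai u) (Nat.mod (T_ai u) M)) (Nat.mod (T_ai u) M) u) (Nat.ble (nat_lit 5) j)
noncomputable def dp_ai_1 (j u : ℕ) : Bool :=
  Bool.rec (motive := fun _ => Bool) (lF [T_wi, T_a, T_w, T_w] M (Nat.sub (T_ai u) (Nat.mod (T_ai u) M)) (Nat.mod (T_ai u) M) u) (lS MG [T_a] M (Nat.sub (T_ai u) (Nat.mod (T_ai u) M)) (nat_lit 40) (Nat.mod (T_ai u) M) u) (Nat.ble (nat_lit 8) j)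
noncomputable def dp_ai_2 (j u : ℕ) : Bool :=
  Bool.rec (motive := fun _ => Bool) (lF [T_ui, T_a, T_ci, T_ci] M (Nat.sub (T_ai u) (Nat.mod (T_ai u) M)) (Nat.mod (T_ai u) M) u) (dp_ai_1 j u) (Nat.ble (nat_lit 7) j)
noncomputable def dp_ai_3 (j u : ℕ) : Bool :=
  Bool.rec (motive := fun _ => Bool) (lF [T_w, T_a, T_wi, T_wi] M (Nat.sub (T_ai u) (Nat.mod (T_ai u) M)) (Nat.mod (T_ai u) M) u) (lF [T_ai, T_b, T_a, T_a, T_bi] M (Nat.sub (T_ai u) (Nat.mod (T_ai u) M)) (Nat.mod (T_ai u) M) u) (Nat.ble (nat_lit 10) j)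
noncomputable def dp_ai_4 (j u : ℕ) : Bool :=
  Bool.rec (motive := fun _ => Bool) (lF [T_ai, T_bi, T_a, T_a, T_b] M (Nat.sub (T_ai u) (Nat.mod (T_ai u) M)) (Nat.mod (T_ai u) M) u) (lF [T_b, T_a, T_a, T_bi, T_ai] M (Nat.sub (T_ai u) (Nat.mod (T_ai u) M)) (Nat.mod (T_ai u) M) u) (Nat.ble (nat_lit 12) j)
noncomputable def dp_ai_5 (j u : ℕ) : Bool :=
  Bool.rec (motive := fun _ => Bool) (lF [T_bi, T_a, T_a, T_b, T_ai] M (Nat.sub (T_ai u) (Nat.mod (T_ai u) M)) (Nat.mod (T_ai u) M) u) (lS MG [T_ci, T_a, T_u] M (Nat.sub (T_ai u) (Nat.mod (T_ai u) M)) (nat_lit 40) (Nat.mod (T_ai u) M) u) (Nat.ble (nat_lit 14) j)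
noncomputable def dp_ai_6 (j u : ℕ) : Bool :=
  Bool.rec (motive := fun _ => Bool) (lS MG [T_u, T_a, T_c, T_c] M (Nat.sub (T_ai u) (Nat.mod (T_ai u) M)) (nat_lit 40) (Nat.mod (T_ai u) M) u) (lS MG [T_ui, T_a, T_ci, T_ci] M (Nat.sub (T_ai u) (Nat.mod (T_ai u) M)) (nat_lit 40) (Nat.mod (T_ai u) M) u) (Nat.ble (nat_lit 17) j)
noncomputable def dp_ai_7 (j u : ℕ) : Bool :=
  Bool.rec (motive := fun _ => Bool) (lF [T_bi, T_ai, T_bi, T_ai, T_bi, T_ai, T_bi] M (Nat.sub (T_ai u) (Nat.mod (T_ai u) M)) (Nat.mod (T_ai u) M) u) (lS MG [T_ai, T_b, T_a, T_a, T_bi] M (Nat.sub (T_ai u) (Nat.mod (T_ai u) M)) (nat_lit 40) (Nat.mod (T_ai u) M) u) (Nat.ble (nat_lit 20) j)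
noncomputable def dp_ai_8 (j u : ℕ) : Bool :=
  Bool.rec (motive := fun _ => Bool) (lF [T_ai, T_ai, T_ai, T_ai, T_ai, T_ai, T_ai] M (Nat.sub (T_ai u) (Nat.mod (T_ai u) M)) (Nat.mod (T_ai u) M) u) (dp_ai_7 j u) (Nat.ble (nat_lit 19) j)
noncomputable def dp_ai_9 (j u : ℕ) : Bool :=
  Bool.rec (motive := fun _ => Bool) (dp_ai_6 j u) (dp_ai_8 j u) (Nat.ble (nat_lit 18) j)
noncomputable def dp_ai_10 (j u : ℕ) : Bool :=
  Bool.rec (motive := fun _ => Bool) (lS MG [T_c, T_a, T_ui] M (Nat.sub (T_ai u) (Nat.mod (T_ai u) M)) (nat_lit 40) (Nat.mod (T_ai u) M) u) (dp_ai_9 j u) (Nat.ble (nat_lit 16) j)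
noncomputable def dp_ai_11 (j u : ℕ) : Bool :=
  Bool.rec (motive := fun _ => Bool) (dp_ai_5 j u) (dp_ai_10 j u) (Nat.ble (nat_lit 15) j)
noncomputable def dp_ai_12 (j u : ℕ) : Bool :=
  Bool.rec (motive := fun _ => Bool) (dp_ai_4 j u) (dp_ai_11 j u) (Nat.ble (nat_lit 13) j)
noncomputable def dp_ai_13 (j u : ℕ) : Bool :=
  Bool.rec (motive := fun _ => Bool) (dp_ai_3 j u) (dp_ai_12 j u) (Nat.ble (nat_lit 11) j)
noncomputable def dp_ai_14 (j u : ℕ) : Bool :=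
  Bool.rec (motive := fun _ => Bool) (dp_ai_2 j u) (dp_ai_13 j u) (Nat.ble (nat_lit 9) j)
noncomputable def dp_ai_15 (j u : ℕ) : Bool :=
  Bool.rec (motive := fun _ => Bool) (dp_ai_0 j u) (dp_ai_14 j u) (Nat.ble (nat_lit 6) j)
noncomputable def dp_ai_16 (j u : ℕ) : Bool :=
  Bool.rec (motive := fun _ => Bool) (Bool.rec (motive := fun _ => Bool) (lF3 T_ci T_a T_u M (Nat.sub (T_ai u) (Nat.mod (T_ai u) M)) (Nat.mod (T_ai u) M) u) (lDef P (nat_lit 1) (Nat.mod (T_ai u) M) u) (Nat.ble (nat_lit 3) j)) (dp_ai_15 j u) (Nat.ble (nat_lit 4) j)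
noncomputable def disp_ai (j u : ℕ) : Bool :=
  Bool.rec (motive := fun _ => Bool) (Bool.rec (motive := fun _ => Bool) (lF1 T_a M (Nat.sub (T_ai u) (Nat.mod (T_ai u) M)) (Nat.mod (T_ai u) M) u) (lF3 T_c T_a T_ui M (Nat.sub (T_ai u) (Nat.mod (T_ai u) M)) (Nat.mod (T_ai u) M) u) (Nat.ble (nat_lit 1) j)) (dp_ai_16 j u) (Nat.ble (nat_lit 2) j)
noncomputable def chk_ai (j u : ℕ) : Bool :=
  Bool.rec (motive := fun _ => Bool) (disp_ai j u) (Nat.ble (Nat.succ (MG u)) A) (Nat.ble A (T_ai u))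
noncomputable def dp_b_0 (j u : ℕ) : Bool :=
  Bool.rec (motive := fun _ => Bool) (lF [T_b, T_b, T_b, T_b] M (Nat.sub (T_b u) (Nat.mod (T_b u) M)) (Nat.mod (T_b u) M) u) (lS MG [T_bi] M (Nat.sub (T_b u) (Nat.mod (T_b u) M)) (nat_lit 40) (Nat.mod (T_b u) M) u) (Nat.ble (nat_lit 8) j)
noncomputable def dp_b_1 (j u : ℕ) : Bool :=
  Bool.rec (motive := fun _ => Bool) (lS MG [T_wi, T_bi, T_w] M (Nat.sub (T_b u) (Nat.mod (T_b u) M)) (nat_lit 40) (Nat.mod (T_b u) M) u) (lF [T_v, T_w, T_bi, T_ci, T_b, T_vi, T_bi, T_c] M (Nat.sub (T_b u) (Nat.mod (T_b u) M)) (Nat.mod (T_b u) M) u) (Nat.ble (nat_lit 11) j)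
noncomputable def dp_b_2 (j u : ℕ) : Bool :=
  Bool.rec (motive := fun _ => Bool) (lS MG [T_c, T_bi, T_vi] M (Nat.sub (T_b u) (Nat.mod (T_b u) M)) (nat_lit 40) (Nat.mod (T_b u) M) u) (dp_b_1 j u) (Nat.ble (nat_lit 10) j)
noncomputable def dp_b_3 (j u : ℕ) : Bool :=
  Bool.rec (motive := fun _ => Bool) (lF [T_vi, T_bi, T_c, T_b, T_v, T_w, T_bi, T_ci] M (Nat.sub (T_b u) (Nat.mod (T_b u) M)) (Nat.mod (T_b u) M) u) (lS MG [T_w, T_bi, T_wi] M (Nat.sub (T_b u) (Nat.mod (T_b u) M)) (nat_lit 40) (Nat.mod (T_b u) M) u) (Nat.ble (nat_lit 13) j)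
noncomputable def dp_b_4 (j u : ℕ) : Bool :=
  Bool.rec (motive := fun _ => Bool) (lF [T_ai, T_ai, T_bi, T_a, T_a] M (Nat.sub (T_b u) (Nat.mod (T_b u) M)) (Nat.mod (T_b u) M) u) (lF [T_ui, T_bi, T_c, T_b, T_u, T_wi, T_bi, T_ci] M (Nat.sub (T_b u) (Nat.mod (T_b u) M)) (Nat.mod (T_b u) M) u) (Nat.ble (nat_lit 15) j)
noncomputable def dp_b_5 (j u : ℕ) : Bool :=
  Bool.rec (motive := fun _ => Bool) (dp_b_3 j u) (dp_b_4 j u) (Nat.ble (nat_lit 14) j)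
noncomputable def dp_b_6 (j u : ℕ) : Bool :=
  Bool.rec (motive := fun _ => Bool) (dp_b_2 j u) (dp_b_5 j u) (Nat.ble (nat_lit 12) j)
noncomputable def dp_b_7 (j u : ℕ) : Bool :=
  Bool.rec (motive := fun _ => Bool) (lF [T_w, T_ui, T_bi, T_ci, T_b, T_u, T_bi, T_c] M (Nat.sub (T_b u) (Nat.mod (T_b u) M)) (Nat.mod (T_b u) M) u) (lF [T_u, T_wi, T_bi, T_ci, T_b, T_ui, T_bi, T_c] M (Nat.sub (T_b u) (Nat.mod (T_b u) M)) (Nat.mod (T_b u) M) u) (Nat.ble (nat_lit 17) j)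
noncomputable def dp_b_8 (j u : ℕ) : Bool :=
  Bool.rec (motive := fun _ => Bool) (lF [T_a, T_a, T_bi, T_ai, T_ai] M (Nat.sub (T_b u) (Nat.mod (T_b u) M)) (Nat.mod (T_b u) M) u) (lF [T_v, T_bi, T_c, T_b, T_wi, T_vi, T_bi, T_ci] M (Nat.sub (T_b u) (Nat.mod (T_b u) M)) (Nat.mod (T_b u) M) u) (Nat.ble (nat_lit 20) j)
noncomputable def dp_b_9 (j u : ℕ) : Bool :=
  Bool.rec (motive := fun _ => Bool) (lF [T_u, T_bi, T_c, T_b, T_w, T_ui, T_bi, T_ci] M (Nat.sub (T_b u) (Nat.mod (T_b u) M)) (Nat.mod (T_b u) M) u) (dp_b_8 j u) (Nat.ble (nat_lit 19) j)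
noncomputable def dp_b_10 (j u : ℕ) : Bool :=
  Bool.rec (motive := fun _ => Bool) (dp_b_7 j u) (dp_b_9 j u) (Nat.ble (nat_lit 18) j)
noncomputable def dp_b_11 (j u : ℕ) : Bool :=
  Bool.rec (motive := fun _ => Bool) (lF [T_wi, T_vi, T_bi, T_ci, T_b, T_v, T_bi, T_c] M (Nat.sub (T_b u) (Nat.mod (T_b u) M)) (Nat.mod (T_b u) M) u) (lF [T_u, T_bi, T_c, T_b, T_vi, T_ci, T_vi, T_bi, T_ui] M (Nat.sub (T_b u) (Nat.mod (T_b u) M)) (Nat.mod (T_b u) M) u) (Nat.ble (nat_lit 22) j)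
noncomputable def dp_b_12 (j u : ℕ) : Bool :=
  Bool.rec (motive := fun _ => Bool) (lF [T_v, T_c, T_v, T_bi, T_ci, T_b, T_ui, T_bi, T_u] M (Nat.sub (T_b u) (Nat.mod (T_b u) M)) (Nat.mod (T_b u) M) u) (lF [T_c, T_c, T_v, T_bi, T_ci, T_ci, T_bi, T_ci, T_b] M (Nat.sub (T_b u) (Nat.mod (T_b u) M)) (Nat.mod (T_b u) M) u) (Nat.ble (nat_lit 24) j)
noncomputable def dp_b_13 (j u : ℕ) : Bool :=
  Bool.rec (motive := fun _ => Bool) (dp_b_11 j u) (dp_b_12 j u) (Nat.ble (nat_lit 23) j)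
noncomputable def dp_b_14 (j u : ℕ) : Bool :=
  Bool.rec (motive := fun _ => Bool) (lF [T_b, T_c, T_c, T_v, T_bi, T_ci, T_ci, T_bi, T_ci] M (Nat.sub (T_b u) (Nat.mod (T_b u) M)) (Nat.mod (T_b u) M) u) (lS MG [T_ci, T_bi, T_v] M (Nat.sub (T_b u) (Nat.mod (T_b u) M)) (nat_lit 40) (Nat.mod (T_b u) M) u) (Nat.ble (nat_lit 28) j)
noncomputable def dp_b_15 (j u : ℕ) : Bool :=
  Bool.rec (motive := fun _ => Bool) (lH [] [] M (Nat.sub (T_b u) (Nat.mod (T_b u) M)) (Nat.mod (T_b u) M) u) (dp_b_14 j u) (Nat.ble (nat_lit 27) j)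
noncomputable def dp_b_16 (j u : ℕ) : Bool :=
  Bool.rec (motive := fun _ => Bool) (lS MG [T_v, T_w, T_bi, T_ci, T_b, T_vi, T_bi, T_c] M (Nat.sub (T_b u) (Nat.mod (T_b u) M)) (nat_lit 40) (Nat.mod (T_b u) M) u) (dp_b_15 j u) (Nat.ble (nat_lit 26) j)
noncomputable def dp_b_17 (j u : ℕ) : Bool :=
  Bool.rec (motive := fun _ => Bool) (lS MG [T_ai, T_ai, T_bi, T_a, T_a] M (Nat.sub (T_b u) (Nat.mod (T_b u) M)) (nat_lit 40) (Nat.mod (T_b u) M) u) (lS MG [T_a, T_a, T_bi, T_ai, T_ai] M (Nat.sub (T_b u) (Nat.mod (T_b u) M)) (nat_lit 40) (Nat.mod (T_b u) M) u) (Nat.ble (nat_lit 30) j)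
noncomputable def dp_b_18 (j u : ℕ) : Bool :=
  Bool.rec (motive := fun _ => Bool) (lF [T_vi, T_ci, T_vi, T_bi, T_ui, T_b, T_u, T_bi, T_c] M (Nat.sub (T_b u) (Nat.mod (T_b u) M)) (Nat.mod (T_b u) M) u) (lS MG [T_w, T_ui, T_bi, T_ci, T_b, T_u, T_bi, T_c] M (Nat.sub (T_b u) (Nat.mod (T_b u) M)) (nat_lit 40) (Nat.mod (T_b u) M) u) (Nat.ble (nat_lit 33) j)
noncomputable def dp_b_19 (j u : ℕ) : Bool :=
  Bool.rec (motive := fun _ => Bool) (lS MG [T_u, T_bi, T_c, T_b, T_w, T_ui, T_bi, T_ci] M (Nat.sub (T_b u) (Nat.mod (T_b u) M)) (nat_lit 40) (Nat.mod (T_b u) M) u) (dp_b_18 j u) (Nat.ble (nat_lit 32) j)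
noncomputable def dp_b_20 (j u : ℕ) : Bool :=
  Bool.rec (motive := fun _ => Bool) (dp_b_17 j u) (dp_b_19 j u) (Nat.ble (nat_lit 31) j)
noncomputable def dp_b_21 (j u : ℕ) : Bool :=
  Bool.rec (motive := fun _ => Bool) (dp_b_16 j u) (dp_b_20 j u) (Nat.ble (nat_lit 29) j)
noncomputable def dp_b_22 (j u : ℕ) : Bool :=
  Bool.rec (motive := fun _ => Bool) (dp_b_13 j u) (dp_b_21 j u) (Nat.ble (nat_lit 25) j)
noncomputable def dp_b_23 (j u : ℕ) : Bool :=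
  Bool.rec (motive := fun _ => Bool) (dp_b_10 j u) (dp_b_22 j u) (Nat.ble (nat_lit 21) j)
noncomputable def dp_b_24 (j u : ℕ) : Bool :=
  Bool.rec (motive := fun _ => Bool) (dp_b_6 j u) (dp_b_23 j u) (Nat.ble (nat_lit 16) j)
noncomputable def dp_b_25 (j u : ℕ) : Bool :=
  Bool.rec (motive := fun _ => Bool) (dp_b_0 j u) (dp_b_24 j u) (Nat.ble (nat_lit 9) j)
noncomputable def dp_b_26 (j u : ℕ) : Bool :=
  Bool.rec (motive := fun _ => Bool) (lDef P (nat_lit 2) (Nat.mod (T_b u) M) u) (dp_b_25 j u) (Nat.ble (nat_lit 7) j)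
noncomputable def dp_b_27 (j u : ℕ) : Bool :=
  Bool.rec (motive := fun _ => Bool) (lF3 T_ci T_bi T_v M (Nat.sub (T_b u) (Nat.mod (T_b u) M)) (Nat.mod (T_b u) M) u) (dp_b_26 j u) (Nat.ble (nat_lit 6) j)
noncomputable def dp_b_28 (j u : ℕ) : Bool :=
  Bool.rec (motive := fun _ => Bool) (Bool.rec (motive := fun _ => Bool) (lF3 T_w T_bi T_wi M (Nat.sub (T_b u) (Nat.mod (T_b u) M)) (Nat.mod (T_b u) M) u) (Bool.rec (motive := fun _ => Bool) (lDef P (nat_lit 3) u (Nat.mod (T_b u) M)) (lF3 T_c T_bi T_vi M (Nat.sub (T_b u) (Nat.mod (T_b u) M)) (Nat.mod (T_b u) M) u) (Nat.ble (nat_lit 4) j)) (Nat.ble (nat_lit 3) j)) (dp_b_27 j u) (Nat.ble (nat_lit 5) j)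
noncomputable def disp_b (j u : ℕ) : Bool :=
  Bool.rec (motive := fun _ => Bool) (Bool.rec (motive := fun _ => Bool) (lF1 T_bi M (Nat.sub (T_b u) (Nat.mod (T_b u) M)) (Nat.mod (T_b u) M) u) (lF3 T_wi T_bi T_w M (Nat.sub (T_b u) (Nat.mod (T_b u) M)) (Nat.mod (T_b u) M) u) (Nat.ble (nat_lit 1) j)) (dp_b_28 j u) (Nat.ble (nat_lit 2) j)
noncomputable def chk_b (j u : ℕ) : Bool :=
  Bool.rec (motive := fun _ => Bool) (disp_b j u) (Nat.ble (Nat.succ (MG u)) A) (Nat.ble A (T_b u))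
noncomputable def dp_bi_0 (j u : ℕ) : Bool :=
  Bool.rec (motive := fun _ => Bool) (lS MG [T_b] M (Nat.sub (T_bi u) (Nat.mod (T_bi u) M)) (nat_lit 40) (Nat.mod (T_bi u) M) u) (lF [T_bi, T_bi, T_bi, T_bi] M (Nat.sub (T_bi u) (Nat.mod (T_bi u) M)) (Nat.mod (T_bi u) M) u) (Nat.ble (nat_lit 8) j)
noncomputable def dp_bi_1 (j u : ℕ) : Bool :=
  Bool.rec (motive := fun _ => Bool) (lS MG [T_v, T_b, T_ci] M (Nat.sub (T_bi u) (Nat.mod (T_bi u) M)) (nat_lit 40) (Nat.mod (T_bi u) M) u) (lF [T_ci, T_b, T_u, T_bi, T_c, T_b, T_w, T_ui] M (Nat.sub (T_bi u) (Nat.mod (T_bi u) M)) (Nat.mod (T_bi u) M) u) (Nat.ble (nat_lit 10) j)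
noncomputable def dp_bi_2 (j u : ℕ) : Bool :=
  Bool.rec (motive := fun _ => Bool) (lS MG [T_w, T_b, T_wi] M (Nat.sub (T_bi u) (Nat.mod (T_bi u) M)) (nat_lit 40) (Nat.mod (T_bi u) M) u) (lF [T_ai, T_ai, T_b, T_a, T_a] M (Nat.sub (T_bi u) (Nat.mod (T_bi u) M)) (Nat.mod (T_bi u) M) u) (Nat.ble (nat_lit 13) j)
noncomputable def dp_bi_3 (j u : ℕ) : Bool :=
  Bool.rec (motive := fun _ => Bool) (lS MG [T_vi, T_b, T_c] M (Nat.sub (T_bi u) (Nat.mod (T_bi u) M)) (nat_lit 40) (Nat.mod (T_bi u) M) u) (dp_bi_2 j u) (Nat.ble (nat_lit 12) j)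
noncomputable def dp_bi_4 (j u : ℕ) : Bool :=
  Bool.rec (motive := fun _ => Bool) (dp_bi_1 j u) (dp_bi_3 j u) (Nat.ble (nat_lit 11) j)
noncomputable def dp_bi_5 (j u : ℕ) : Bool :=
  Bool.rec (motive := fun _ => Bool) (lF [T_ci, T_b, T_v, T_bi, T_c, T_b, T_wi, T_vi] M (Nat.sub (T_bi u) (Nat.mod (T_bi u) M)) (Nat.mod (T_bi u) M) u) (lS MG [T_wi, T_b, T_w] M (Nat.sub (T_bi u) (Nat.mod (T_bi u) M)) (nat_lit 40) (Nat.mod (T_bi u) M) u) (Nat.ble (nat_lit 15) j)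
noncomputable def dp_bi_6 (j u : ℕ) : Bool :=
  Bool.rec (motive := fun _ => Bool) (lF [T_u, T_b, T_v, T_c, T_v, T_bi, T_ci, T_b, T_ui] M (Nat.sub (T_bi u) (Nat.mod (T_bi u) M)) (Nat.mod (T_bi u) M) u) (lF [T_ui, T_b, T_u, T_bi, T_c, T_b, T_vi, T_ci, T_vi] M (Nat.sub (T_bi u) (Nat.mod (T_bi u) M)) (Nat.mod (T_bi u) M) u) (Nat.ble (nat_lit 17) j)
noncomputable def dp_bi_7 (j u : ℕ) : Bool :=
  Bool.rec (motive := fun _ => Bool) (dp_bi_5 j u) (dp_bi_6 j u) (Nat.ble (nat_lit 16) j)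
noncomputable def dp_bi_8 (j u : ℕ) : Bool :=
  Bool.rec (motive := fun _ => Bool) (lF [T_c, T_b, T_w, T_ui, T_bi, T_ci, T_b, T_u] M (Nat.sub (T_bi u) (Nat.mod (T_bi u) M)) (Nat.mod (T_bi u) M) u) (lF [T_c, T_b, T_v, T_w, T_bi, T_ci, T_b, T_vi] M (Nat.sub (T_bi u) (Nat.mod (T_bi u) M)) (Nat.mod (T_bi u) M) u) (Nat.ble (nat_lit 19) j)
noncomputable def dp_bi_9 (j u : ℕ) : Bool :=
  Bool.rec (motive := fun _ => Bool) (lF [T_c, T_b, T_u, T_wi, T_bi, T_ci, T_b, T_ui] M (Nat.sub (T_bi u) (Nat.mod (T_bi u) M)) (Nat.mod (T_bi u) M) u) (lS MG [T_bi, T_bi, T_bi, T_bi] M (Nat.sub (T_bi u) (Nat.mod (T_bi u) M)) (nat_lit 40) (Nat.mod (T_bi u) M) u) (Nat.ble (nat_lit 21) j)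
noncomputable def dp_bi_10 (j u : ℕ) : Bool :=
  Bool.rec (motive := fun _ => Bool) (dp_bi_8 j u) (dp_bi_9 j u) (Nat.ble (nat_lit 20) j)
noncomputable def dp_bi_11 (j u : ℕ) : Bool :=
  Bool.rec (motive := fun _ => Bool) (lF [T_ci, T_b, T_c, T_bi, T_c, T_b, T_w, T_w, T_ci] M (Nat.sub (T_bi u) (Nat.mod (T_bi u) M)) (Nat.mod (T_bi u) M) u) (lF [T_ci, T_b, T_vi, T_bi, T_c, T_b, T_v, T_w] M (Nat.sub (T_bi u) (Nat.mod (T_bi u) M)) (Nat.mod (T_bi u) M) u) (Nat.ble (nat_lit 25) j)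
noncomputable def dp_bi_12 (j u : ℕ) : Bool :=
  Bool.rec (motive := fun _ => Bool) (lF [T_ci, T_ci, T_bi, T_ci, T_b, T_b, T_c, T_c, T_v] M (Nat.sub (T_bi u) (Nat.mod (T_bi u) M)) (Nat.mod (T_bi u) M) u) (dp_bi_11 j u) (Nat.ble (nat_lit 24) j)
noncomputable def dp_bi_13 (j u : ℕ) : Bool :=
  Bool.rec (motive := fun _ => Bool) (lF [T_ci, T_b, T_ui, T_bi, T_c, T_b, T_u, T_wi] M (Nat.sub (T_bi u) (Nat.mod (T_bi u) M)) (Nat.mod (T_bi u) M) u) (dp_bi_12 j u) (Nat.ble (nat_lit 23) j)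
noncomputable def dp_bi_14 (j u : ℕ) : Bool :=
  Bool.rec (motive := fun _ => Bool) (lS MG [T_ci, T_b, T_v, T_bi, T_c, T_b, T_wi, T_vi] M (Nat.sub (T_bi u) (Nat.mod (T_bi u) M)) (nat_lit 40) (Nat.mod (T_bi u) M) u) (lF [T_c, T_b, T_c, T_c, T_b, T_vi, T_ci, T_ci, T_bi] M (Nat.sub (T_bi u) (Nat.mod (T_bi u) M)) (Nat.mod (T_bi u) M) u) (Nat.ble (nat_lit 28) j)
noncomputable def dp_bi_15 (j u : ℕ) : Bool :=
  Bool.rec (motive := fun _ => Bool) (lF [T_c, T_b, T_wi, T_vi, T_bi, T_ci, T_b, T_v] M (Nat.sub (T_bi u) (Nat.mod (T_bi u) M)) (Nat.mod (T_bi u) M) u) (dp_bi_14 j u) (Nat.ble (nat_lit 27) j)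
noncomputable def dp_bi_16 (j u : ℕ) : Bool :=
  Bool.rec (motive := fun _ => Bool) (lS MG [T_c, T_b, T_u, T_wi, T_bi, T_ci, T_b, T_ui] M (Nat.sub (T_bi u) (Nat.mod (T_bi u) M)) (nat_lit 40) (Nat.mod (T_bi u) M) u) (lS MG [T_c, T_b, T_c, T_c, T_b, T_vi, T_ci, T_ci, T_bi] M (Nat.sub (T_bi u) (Nat.mod (T_bi u) M)) (nat_lit 40) (Nat.mod (T_bi u) M) u) (Nat.ble (nat_lit 31) j)
noncomputable def dp_bi_17 (j u : ℕ) : Bool :=
  Bool.rec (motive := fun _ => Bool) (lF [T_a, T_a, T_b, T_ai, T_ai] M (Nat.sub (T_bi u) (Nat.mod (T_bi u) M)) (Nat.mod (T_bi u) M) u) (dp_bi_16 j u) (Nat.ble (nat_lit 30) j)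
noncomputable def dp_bi_18 (j u : ℕ) : Bool :=
  Bool.rec (motive := fun _ => Bool) (dp_bi_15 j u) (dp_bi_17 j u) (Nat.ble (nat_lit 29) j)
noncomputable def dp_bi_19 (j u : ℕ) : Bool :=
  Bool.rec (motive := fun _ => Bool) (dp_bi_13 j u) (dp_bi_18 j u) (Nat.ble (nat_lit 26) j)
noncomputable def dp_bi_20 (j u : ℕ) : Bool :=
  Bool.rec (motive := fun _ => Bool) (dp_bi_10 j u) (dp_bi_19 j u) (Nat.ble (nat_lit 22) j)
noncomputable def dp_bi_21 (j u : ℕ) : Bool :=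
  Bool.rec (motive := fun _ => Bool) (dp_bi_7 j u) (dp_bi_20 j u) (Nat.ble (nat_lit 18) j)
noncomputable def dp_bi_22 (j u : ℕ) : Bool :=
  Bool.rec (motive := fun _ => Bool) (dp_bi_4 j u) (dp_bi_21 j u) (Nat.ble (nat_lit 14) j)
noncomputable def dp_bi_23 (j u : ℕ) : Bool :=
  Bool.rec (motive := fun _ => Bool) (dp_bi_0 j u) (dp_bi_22 j u) (Nat.ble (nat_lit 9) j)
noncomputable def dp_bi_24 (j u : ℕ) : Bool :=
  Bool.rec (motive := fun _ => Bool) (lDef P (nat_lit 2) u (Nat.mod (T_bi u) M)) (dp_bi_23 j u) (Nat.ble (nat_lit 7) j)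
noncomputable def dp_bi_25 (j u : ℕ) : Bool :=
  Bool.rec (motive := fun _ => Bool) (lF3 T_v T_b T_ci M (Nat.sub (T_bi u) (Nat.mod (T_bi u) M)) (Nat.mod (T_bi u) M) u) (dp_bi_24 j u) (Nat.ble (nat_lit 6) j)
noncomputable def dp_bi_26 (j u : ℕ) : Bool :=
  Bool.rec (motive := fun _ => Bool) (Bool.rec (motive := fun _ => Bool) (lF3 T_wi T_b T_w M (Nat.sub (T_bi u) (Nat.mod (T_bi u) M)) (Nat.mod (T_bi u) M) u) (Bool.rec (motive := fun _ => Bool) (lF3 T_vi T_b T_c M (Nat.sub (T_bi u) (Nat.mod (T_bi u) M)) (Nat.mod (T_bi u) M) u) (lDef P (nat_lit 3) (Nat.mod (T_bi u) M) u) (Nat.ble (nat_lit 4) j)) (Nat.ble (nat_lit 3) j)) (dp_bi_25 j u) (Nat.ble (nat_lit 5) j)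
noncomputable def disp_bi (j u : ℕ) : Bool :=
  Bool.rec (motive := fun _ => Bool) (Bool.rec (motive := fun _ => Bool) (lF1 T_b M (Nat.sub (T_bi u) (Nat.mod (T_bi u) M)) (Nat.mod (T_bi u) M) u) (lF3 T_w T_b T_wi M (Nat.sub (T_bi u) (Nat.mod (T_bi u) M)) (Nat.mod (T_bi u) M) u) (Nat.ble (nat_lit 1) j)) (dp_bi_26 j u) (Nat.ble (nat_lit 2) j)
noncomputable def chk_bi (j u : ℕ) : Bool :=
  Bool.rec (motive := fun _ => Bool) (disp_bi j u) (Nat.ble (Nat.succ (MG u)) A) (Nat.ble A (T_bi u))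
noncomputable def dp_c_0 (j u : ℕ) : Bool :=
  Bool.rec (motive := fun _ => Bool) (lF3 T_a T_ui T_ai M (Nat.sub (T_c u) (Nat.mod (T_c u) M)) (Nat.mod (T_c u) M) u) (lS MG [T_ci] M (Nat.sub (T_c u) (Nat.mod (T_c u) M)) (nat_lit 40) (Nat.mod (T_c u) M) u) (Nat.ble (nat_lit 7) j)
noncomputable def dp_c_1 (j u : ℕ) : Bool :=
  Bool.rec (motive := fun _ => Bool) (lF [T_w, T_ui, T_ci, T_u] M (Nat.sub (T_c u) (Nat.mod (T_c u) M)) (Nat.mod (T_c u) M) u) (lF [T_c, T_c, T_c, T_c] M (Nat.sub (T_c u) (Nat.mod (T_c u) M)) (Nat.mod (T_c u) M) u) (Nat.ble (nat_lit 10) j)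
noncomputable def dp_c_2 (j u : ℕ) : Bool :=
  Bool.rec (motive := fun _ => Bool) (lF [T_u, T_wi, T_ci, T_ui] M (Nat.sub (T_c u) (Nat.mod (T_c u) M)) (Nat.mod (T_c u) M) u) (dp_c_1 j u) (Nat.ble (nat_lit 9) j)
noncomputable def dp_c_3 (j u : ℕ) : Bool :=
  Bool.rec (motive := fun _ => Bool) (lF [T_v, T_wi, T_wi, T_ci, T_vi] M (Nat.sub (T_c u) (Nat.mod (T_c u) M)) (Nat.mod (T_c u) M) u) (lF [T_c, T_ai, T_u, T_a] M (Nat.sub (T_c u) (Nat.mod (T_c u) M)) (Nat.mod (T_c u) M) u) (Nat.ble (nat_lit 13) j)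
noncomputable def dp_c_4 (j u : ℕ) : Bool :=
  Bool.rec (motive := fun _ => Bool) (lF [T_ai, T_u, T_a, T_c] M (Nat.sub (T_c u) (Nat.mod (T_c u) M)) (Nat.mod (T_c u) M) u) (dp_c_3 j u) (Nat.ble (nat_lit 12) j)
noncomputable def dp_c_5 (j u : ℕ) : Bool :=
  Bool.rec (motive := fun _ => Bool) (lS MG [T_w, T_ci, T_wi] M (Nat.sub (T_c u) (Nat.mod (T_c u) M)) (nat_lit 40) (Nat.mod (T_c u) M) u) (lS MG [T_wi, T_ci, T_w] M (Nat.sub (T_c u) (Nat.mod (T_c u) M)) (nat_lit 40) (Nat.mod (T_c u) M) u) (Nat.ble (nat_lit 16) j)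
noncomputable def dp_c_6 (j u : ℕ) : Bool :=
  Bool.rec (motive := fun _ => Bool) (lF [T_w, T_w, T_vi, T_ci, T_v] M (Nat.sub (T_c u) (Nat.mod (T_c u) M)) (Nat.mod (T_c u) M) u) (dp_c_5 j u) (Nat.ble (nat_lit 15) j)
noncomputable def dp_c_7 (j u : ℕ) : Bool :=
  Bool.rec (motive := fun _ => Bool) (lF [T_v, T_bi, T_ci, T_b, T_ui, T_bi, T_u, T_b, T_v] M (Nat.sub (T_c u) (Nat.mod (T_c u) M)) (Nat.mod (T_c u) M) u) (lF [T_b, T_w, T_ui, T_bi, T_ci, T_b, T_u, T_bi] M (Nat.sub (T_c u) (Nat.mod (T_c u) M)) (Nat.mod (T_c u) M) u) (Nat.ble (nat_lit 18) j)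
noncomputable def dp_c_8 (j u : ℕ) : Bool :=
  Bool.rec (motive := fun _ => Bool) (lF [T_b, T_u, T_wi, T_bi, T_ci, T_b, T_ui, T_bi] M (Nat.sub (T_c u) (Nat.mod (T_c u) M)) (Nat.mod (T_c u) M) u) (lF [T_b, T_wi, T_vi, T_bi, T_ci, T_b, T_v, T_bi] M (Nat.sub (T_c u) (Nat.mod (T_c u) M)) (Nat.mod (T_c u) M) u) (Nat.ble (nat_lit 20) j)
noncomputable def dp_c_9 (j u : ℕ) : Bool :=
  Bool.rec (motive := fun _ => Bool) (dp_c_7 j u) (dp_c_8 j u) (Nat.ble (nat_lit 19) j)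
noncomputable def dp_c_10 (j u : ℕ) : Bool :=
  Bool.rec (motive := fun _ => Bool) (lS MG [T_b, T_v, T_w, T_bi, T_ci, T_b, T_vi, T_bi] M (Nat.sub (T_c u) (Nat.mod (T_c u) M)) (nat_lit 40) (Nat.mod (T_c u) M) u) (lS MG [T_a, T_ui, T_ai] M (Nat.sub (T_c u) (Nat.mod (T_c u) M)) (nat_lit 40) (Nat.mod (T_c u) M) u) (Nat.ble (nat_lit 24) j)
noncomputable def dp_c_11 (j u : ℕ) : Bool :=
  Bool.rec (motive := fun _ => Bool) (lS MG [T_bi, T_vi, T_b] M (Nat.sub (T_c u) (Nat.mod (T_c u) M)) (nat_lit 40) (Nat.mod (T_c u) M) u) (dp_c_10 j u) (Nat.ble (nat_lit 23) j)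
noncomputable def dp_c_12 (j u : ℕ) : Bool :=
  Bool.rec (motive := fun _ => Bool) (lS MG [T_w, T_ui, T_ci, T_u] M (Nat.sub (T_c u) (Nat.mod (T_c u) M)) (nat_lit 40) (Nat.mod (T_c u) M) u) (dp_c_11 j u) (Nat.ble (nat_lit 22) j)
noncomputable def dp_c_13 (j u : ℕ) : Bool :=
  Bool.rec (motive := fun _ => Bool) (lF [T_b, T_vi, T_ci, T_ci, T_bi, T_bi, T_c, T_b, T_c] M (Nat.sub (T_c u) (Nat.mod (T_c u) M)) (Nat.mod (T_c u) M) u) (lF [T_b, T_ai, T_bi, T_c, T_b, T_a, T_vi, T_ci, T_bi, T_c] M (Nat.sub (T_c u) (Nat.mod (T_c u) M)) (Nat.mod (T_c u) M) u) (Nat.ble (nat_lit 27) j)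
noncomputable def dp_c_14 (j u : ℕ) : Bool :=
  Bool.rec (motive := fun _ => Bool) (lF [T_c, T_b, T_vi, T_ci, T_ci, T_bi, T_bi, T_c, T_b] M (Nat.sub (T_c u) (Nat.mod (T_c u) M)) (Nat.mod (T_c u) M) u) (dp_c_13 j u) (Nat.ble (nat_lit 26) j)
noncomputable def dp_c_15 (j u : ℕ) : Bool :=
  Bool.rec (motive := fun _ => Bool) (lF [T_b, T_v, T_w, T_bi, T_ci, T_b, T_vi, T_bi] M (Nat.sub (T_c u) (Nat.mod (T_c u) M)) (Nat.mod (T_c u) M) u) (lS MG [T_c, T_c, T_c, T_c] M (Nat.sub (T_c u) (Nat.mod (T_c u) M)) (nat_lit 40) (Nat.mod (T_c u) M) u) (Nat.ble (nat_lit 30) j)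
noncomputable def dp_c_16 (j u : ℕ) : Bool :=
  Bool.rec (motive := fun _ => Bool) (lS MG [T_v, T_bi, T_ci, T_b, T_ui, T_bi, T_u, T_b, T_v] M (Nat.sub (T_c u) (Nat.mod (T_c u) M)) (nat_lit 40) (Nat.mod (T_c u) M) u) (dp_c_15 j u) (Nat.ble (nat_lit 29) j)
noncomputable def dp_c_17 (j u : ℕ) : Bool :=
  Bool.rec (motive := fun _ => Bool) (dp_c_14 j u) (dp_c_16 j u) (Nat.ble (nat_lit 28) j)
noncomputable def dp_c_18 (j u : ℕ) : Bool :=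
  Bool.rec (motive := fun _ => Bool) (dp_c_12 j u) (dp_c_17 j u) (Nat.ble (nat_lit 25) j)
noncomputable def dp_c_19 (j u : ℕ) : Bool :=
  Bool.rec (motive := fun _ => Bool) (dp_c_9 j u) (dp_c_18 j u) (Nat.ble (nat_lit 21) j)
noncomputable def dp_c_20 (j u : ℕ) : Bool :=
  Bool.rec (motive := fun _ => Bool) (dp_c_6 j u) (dp_c_19 j u) (Nat.ble (nat_lit 17) j)
noncomputable def dp_c_21 (j u : ℕ) : Bool :=
  Bool.rec (motive := fun _ => Bool) (dp_c_4 j u) (dp_c_20 j u) (Nat.ble (nat_lit 14) j)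
noncomputable def dp_c_22 (j u : ℕ) : Bool :=
  Bool.rec (motive := fun _ => Bool) (dp_c_2 j u) (dp_c_21 j u) (Nat.ble (nat_lit 11) j)
noncomputable def dp_c_23 (j u : ℕ) : Bool :=
  Bool.rec (motive := fun _ => Bool) (dp_c_0 j u) (dp_c_22 j u) (Nat.ble (nat_lit 8) j)
noncomputable def dp_c_24 (j u : ℕ) : Bool :=
  Bool.rec (motive := fun _ => Bool) (Bool.rec (motive := fun _ => Bool) (lDef P (nat_lit 4) (Nat.mod (T_c u) M) u) (lF3 T_bi T_vi T_b M (Nat.sub (T_c u) (Nat.mod (T_c u) M)) (Nat.mod (T_c u) M) u) (Nat.ble (nat_lit 5) j)) (dp_c_23 j u) (Nat.ble (nat_lit 6) j)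
noncomputable def dp_c_25 (j u : ℕ) : Bool :=
  Bool.rec (motive := fun _ => Bool) (Bool.rec (motive := fun _ => Bool) (lF3 T_w T_ci T_wi M (Nat.sub (T_c u) (Nat.mod (T_c u) M)) (Nat.mod (T_c u) M) u) (lDef P (nat_lit 5) u (Nat.mod (T_c u) M)) (Nat.ble (nat_lit 3) j)) (dp_c_24 j u) (Nat.ble (nat_lit 4) j)
noncomputable def disp_c (j u : ℕ) : Bool :=
  Bool.rec (motive := fun _ => Bool) (Bool.rec (motive := fun _ => Bool) (lF1 T_ci M (Nat.sub (T_c u) (Nat.mod (T_c u) M)) (Nat.mod (T_c u) M) u) (lF3 T_wi T_ci T_w M (Nat.sub (T_c u) (Nat.mod (T_c u) M)) (Nat.mod (T_c u) M) u) (Nat.ble (nat_lit 1) j)) (dp_c_25 j u) (Nat.ble (nat_lit 2) j)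
noncomputable def chk_c (j u : ℕ) : Bool :=
  Bool.rec (motive := fun _ => Bool) (disp_c j u) (Nat.ble (Nat.succ (MG u)) A) (Nat.ble A (T_c u))
noncomputable def dp_ci_0 (j u : ℕ) : Bool :=
  Bool.rec (motive := fun _ => Bool) (lF3 T_bi T_v T_b M (Nat.sub (T_ci u) (Nat.mod (T_ci u) M)) (Nat.mod (T_ci u) M) u) (lS MG [T_c] M (Nat.sub (T_ci u) (Nat.mod (T_ci u) M)) (nat_lit 40) (Nat.mod (T_ci u) M) u) (Nat.ble (nat_lit 7) j)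
noncomputable def dp_ci_1 (j u : ℕ) : Bool :=
  Bool.rec (motive := fun _ => Bool) (lF [T_ai, T_ui, T_a, T_ci] M (Nat.sub (T_ci u) (Nat.mod (T_ci u) M)) (Nat.mod (T_ci u) M) u) (lF [T_ui, T_c, T_u, T_wi] M (Nat.sub (T_ci u) (Nat.mod (T_ci u) M)) (Nat.mod (T_ci u) M) u) (Nat.ble (nat_lit 10) j)
noncomputable def dp_ci_2 (j u : ℕ) : Bool :=
  Bool.rec (motive := fun _ => Bool) (lF [T_u, T_c, T_w, T_ui] M (Nat.sub (T_ci u) (Nat.mod (T_ci u) M)) (Nat.mod (T_ci u) M) u) (dp_ci_1 j u) (Nat.ble (nat_lit 9) j)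
noncomputable def dp_ci_3 (j u : ℕ) : Bool :=
  Bool.rec (motive := fun _ => Bool) (lF [T_ci, T_ai, T_ui, T_a] M (Nat.sub (T_ci u) (Nat.mod (T_ci u) M)) (Nat.mod (T_ci u) M) u) (lF [T_ci, T_ci, T_ci, T_ci] M (Nat.sub (T_ci u) (Nat.mod (T_ci u) M)) (Nat.mod (T_ci u) M) u) (Nat.ble (nat_lit 13) j)
noncomputable def dp_ci_4 (j u : ℕ) : Bool :=
  Bool.rec (motive := fun _ => Bool) (lF [T_v, T_c, T_w, T_w, T_vi] M (Nat.sub (T_ci u) (Nat.mod (T_ci u) M)) (Nat.mod (T_ci u) M) u) (dp_ci_3 j u) (Nat.ble (nat_lit 12) j)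
noncomputable def dp_ci_5 (j u : ℕ) : Bool :=
  Bool.rec (motive := fun _ => Bool) (lS MG [T_w, T_c, T_wi] M (Nat.sub (T_ci u) (Nat.mod (T_ci u) M)) (nat_lit 40) (Nat.mod (T_ci u) M) u) (lF [T_b, T_u, T_bi, T_c, T_b, T_w, T_ui, T_bi] M (Nat.sub (T_ci u) (Nat.mod (T_ci u) M)) (Nat.mod (T_ci u) M) u) (Nat.ble (nat_lit 16) j)
noncomputable def dp_ci_6 (j u : ℕ) : Bool :=
  Bool.rec (motive := fun _ => Bool) (lS MG [T_wi, T_c, T_w] M (Nat.sub (T_ci u) (Nat.mod (T_ci u) M)) (nat_lit 40) (Nat.mod (T_ci u) M) u) (dp_ci_5 j u) (Nat.ble (nat_lit 15) j)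
noncomputable def dp_ci_7 (j u : ℕ) : Bool :=
  Bool.rec (motive := fun _ => Bool) (lF [T_b, T_ui, T_bi, T_c, T_b, T_u, T_wi, T_bi] M (Nat.sub (T_ci u) (Nat.mod (T_ci u) M)) (Nat.mod (T_ci u) M) u) (lF [T_b, T_vi, T_bi, T_c, T_b, T_v, T_w, T_bi] M (Nat.sub (T_ci u) (Nat.mod (T_ci u) M)) (Nat.mod (T_ci u) M) u) (Nat.ble (nat_lit 19) j)
noncomputable def dp_ci_8 (j u : ℕ) : Bool :=
  Bool.rec (motive := fun _ => Bool) (lF [T_vi, T_c, T_v, T_wi, T_wi] M (Nat.sub (T_ci u) (Nat.mod (T_ci u) M)) (Nat.mod (T_ci u) M) u) (dp_ci_7 j u) (Nat.ble (nat_lit 18) j)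
noncomputable def dp_ci_9 (j u : ℕ) : Bool :=
  Bool.rec (motive := fun _ => Bool) (lF [T_ci, T_bi, T_bi, T_c, T_b, T_c, T_c, T_b, T_vi] M (Nat.sub (T_ci u) (Nat.mod (T_ci u) M)) (Nat.mod (T_ci u) M) u) (lF [T_b, T_v, T_bi, T_c, T_b, T_wi, T_vi, T_bi] M (Nat.sub (T_ci u) (Nat.mod (T_ci u) M)) (Nat.mod (T_ci u) M) u) (Nat.ble (nat_lit 21) j)
noncomputable def dp_ci_10 (j u : ℕ) : Bool :=
  Bool.rec (motive := fun _ => Bool) (lF [T_ci, T_bi, T_ci, T_b, T_b, T_c, T_c, T_v, T_bi] M (Nat.sub (T_ci u) (Nat.mod (T_ci u) M)) (Nat.mod (T_ci u) M) u) (lF [T_bi, T_bi, T_c, T_b, T_c, T_c, T_b, T_vi, T_ci] M (Nat.sub (T_ci u) (Nat.mod (T_ci u) M)) (Nat.mod (T_ci u) M) u) (Nat.ble (nat_lit 25) j)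
noncomputable def dp_ci_11 (j u : ℕ) : Bool :=
  Bool.rec (motive := fun _ => Bool) (lS MG [T_a, T_u, T_ai] M (Nat.sub (T_ci u) (Nat.mod (T_ci u) M)) (nat_lit 40) (Nat.mod (T_ci u) M) u) (dp_ci_10 j u) (Nat.ble (nat_lit 24) j)
noncomputable def dp_ci_12 (j u : ℕ) : Bool :=
  Bool.rec (motive := fun _ => Bool) (lS MG [T_bi, T_v, T_b] M (Nat.sub (T_ci u) (Nat.mod (T_ci u) M)) (nat_lit 40) (Nat.mod (T_ci u) M) u) (dp_ci_11 j u) (Nat.ble (nat_lit 23) j)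
noncomputable def dp_ci_13 (j u : ℕ) : Bool :=
  Bool.rec (motive := fun _ => Bool) (dp_ci_9 j u) (dp_ci_12 j u) (Nat.ble (nat_lit 22) j)
noncomputable def dp_ci_14 (j u : ℕ) : Bool :=
  Bool.rec (motive := fun _ => Bool) (dp_ci_8 j u) (dp_ci_13 j u) (Nat.ble (nat_lit 20) j)
noncomputable def dp_ci_15 (j u : ℕ) : Bool :=
  Bool.rec (motive := fun _ => Bool) (dp_ci_6 j u) (dp_ci_14 j u) (Nat.ble (nat_lit 17) j)
noncomputable def dp_ci_16 (j u : ℕ) : Bool :=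
  Bool.rec (motive := fun _ => Bool) (dp_ci_4 j u) (dp_ci_15 j u) (Nat.ble (nat_lit 14) j)
noncomputable def dp_ci_17 (j u : ℕ) : Bool :=
  Bool.rec (motive := fun _ => Bool) (dp_ci_2 j u) (dp_ci_16 j u) (Nat.ble (nat_lit 11) j)
noncomputable def dp_ci_18 (j u : ℕ) : Bool :=
  Bool.rec (motive := fun _ => Bool) (dp_ci_0 j u) (dp_ci_17 j u) (Nat.ble (nat_lit 8) j)
noncomputable def dp_ci_19 (j u : ℕ) : Bool :=
  Bool.rec (motive := fun _ => Bool) (Bool.rec (motive := fun _ => Bool) (lDef P (nat_lit 4) u (Nat.mod (T_ci u) M)) (lF3 T_a T_u T_ai M (Nat.sub (T_ci u) (Nat.mod (T_ci u) M)) (Nat.mod (T_ci u) M) u) (Nat.ble (nat_lit 5) j)) (dp_ci_18 j u) (Nat.ble (nat_lit 6) j)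
noncomputable def dp_ci_20 (j u : ℕ) : Bool :=
  Bool.rec (motive := fun _ => Bool) (Bool.rec (motive := fun _ => Bool) (lF3 T_w T_c T_wi M (Nat.sub (T_ci u) (Nat.mod (T_ci u) M)) (Nat.mod (T_ci u) M) u) (lDef P (nat_lit 5) (Nat.mod (T_ci u) M) u) (Nat.ble (nat_lit 3) j)) (dp_ci_19 j u) (Nat.ble (nat_lit 4) j)
noncomputable def disp_ci (j u : ℕ) : Bool :=
  Bool.rec (motive := fun _ => Bool) (Bool.rec (motive := fun _ => Bool) (lF1 T_c M (Nat.sub (T_ci u) (Nat.mod (T_ci u) M)) (Nat.mod (T_ci u) M) u) (lF3 T_wi T_c T_w M (Nat.sub (T_ci u) (Nat.mod (T_ci u) M)) (Nat.mod (T_ci u) M) u) (Nat.ble (nat_lit 1) j)) (dp_ci_20 j u) (Nat.ble (nat_lit 2) j)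
noncomputable def chk_ci (j u : ℕ) : Bool :=
  Bool.rec (motive := fun _ => Bool) (disp_ci j u) (Nat.ble (Nat.succ (MG u)) A) (Nat.ble A (T_ci u))
noncomputable def dp_u_0 (j u : ℕ) : Bool :=
  Bool.rec (motive := fun _ => Bool) (lF [T_a, T_c, T_c, T_ai] M (Nat.sub (T_u u) (Nat.mod (T_u u) M)) (Nat.mod (T_u u) M) u) (lF [T_c, T_w, T_ui, T_ci] M (Nat.sub (T_u u) (Nat.mod (T_u u) M)) (Nat.mod (T_u u) M) u) (Nat.ble (nat_lit 9) j)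
noncomputable def dp_u_1 (j u : ℕ) : Bool :=
  Bool.rec (motive := fun _ => Bool) (lS MG [T_wi, T_ui, T_w] M (Nat.sub (T_u u) (Nat.mod (T_u u) M)) (nat_lit 40) (Nat.mod (T_u u) M) u) (lF [T_bi, T_c, T_b, T_w, T_ui, T_bi, T_ci, T_b] M (Nat.sub (T_u u) (Nat.mod (T_u u) M)) (Nat.mod (T_u u) M) u) (Nat.ble (nat_lit 13) j)
noncomputable def dp_u_2 (j u : ℕ) : Bool :=
  Bool.rec (motive := fun _ => Bool) (lS MG [T_vi, T_ui, T_v] M (Nat.sub (T_u u) (Nat.mod (T_u u) M)) (nat_lit 40) (Nat.mod (T_u u) M) u) (lS MG [T_v, T_ui, T_vi] M (Nat.sub (T_u u) (Nat.mod (T_u u) M)) (nat_lit 40) (Nat.mod (T_u u) M) u) (Nat.ble (nat_lit 15) j)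
noncomputable def dp_u_3 (j u : ℕ) : Bool :=
  Bool.rec (motive := fun _ => Bool) (lF [T_wi, T_bi, T_ci, T_b, T_ui, T_bi, T_c, T_b] M (Nat.sub (T_u u) (Nat.mod (T_u u) M)) (Nat.mod (T_u u) M) u) (lS MG [T_wi, T_bi, T_ci, T_b, T_ui, T_bi, T_c, T_b] M (Nat.sub (T_u u) (Nat.mod (T_u u) M)) (nat_lit 40) (Nat.mod (T_u u) M) u) (Nat.ble (nat_lit 19) j)
noncomputable def dp_u_4 (j u : ℕ) : Bool :=
  Bool.rec (motive := fun _ => Bool) (lS MG [T_w, T_ui, T_wi] M (Nat.sub (T_u u) (Nat.mod (T_u u) M)) (nat_lit 40) (Nat.mod (T_u u) M) u) (dp_u_3 j u) (Nat.ble (nat_lit 18) j)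
noncomputable def dp_u_5 (j u : ℕ) : Bool :=
  Bool.rec (motive := fun _ => Bool) (lS MG [T_ai, T_ci, T_a] M (Nat.sub (T_u u) (Nat.mod (T_u u) M)) (nat_lit 40) (Nat.mod (T_u u) M) u) (dp_u_4 j u) (Nat.ble (nat_lit 17) j)
noncomputable def dp_u_6 (j u : ℕ) : Bool :=
  Bool.rec (motive := fun _ => Bool) (dp_u_2 j u) (dp_u_5 j u) (Nat.ble (nat_lit 16) j)
noncomputable def dp_u_7 (j u : ℕ) : Bool :=
  Bool.rec (motive := fun _ => Bool) (dp_u_1 j u) (dp_u_6 j u) (Nat.ble (nat_lit 14) j)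
noncomputable def dp_u_8 (j u : ℕ) : Bool :=
  Bool.rec (motive := fun _ => Bool) (lF [T_wi, T_ci, T_ui, T_c] M (Nat.sub (T_u u) (Nat.mod (T_u u) M)) (Nat.mod (T_u u) M) u) (dp_u_7 j u) (Nat.ble (nat_lit 12) j)
noncomputable def dp_u_9 (j u : ℕ) : Bool :=
  Bool.rec (motive := fun _ => Bool) (lS MG [T_ui] M (Nat.sub (T_u u) (Nat.mod (T_u u) M)) (nat_lit 40) (Nat.mod (T_u u) M) u) (dp_u_8 j u) (Nat.ble (nat_lit 11) j)
noncomputable def dp_u_10 (j u : ℕ) : Bool :=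
  Bool.rec (motive := fun _ => Bool) (dp_u_0 j u) (dp_u_9 j u) (Nat.ble (nat_lit 10) j)
noncomputable def dp_u_11 (j u : ℕ) : Bool :=
  Bool.rec (motive := fun _ => Bool) (lF3 T_ai T_ci T_a M (Nat.sub (T_u u) (Nat.mod (T_u u) M)) (Nat.mod (T_u u) M) u) (dp_u_10 j u) (Nat.ble (nat_lit 8) j)
noncomputable def dp_u_12 (j u : ℕ) : Bool :=
  Bool.rec (motive := fun _ => Bool) (Bool.rec (motive := fun _ => Bool) (lF3 T_vi T_ui T_v M (Nat.sub (T_u u) (Nat.mod (T_u u) M)) (Nat.mod (T_u u) M) u) (lF3 T_v T_ui T_vi M (Nat.sub (T_u u) (Nat.mod (T_u u) M)) (Nat.mod (T_u u) M) u) (Nat.ble (nat_lit 6) j)) (dp_u_11 j u) (Nat.ble (nat_lit 7) j)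
noncomputable def dp_u_13 (j u : ℕ) : Bool :=
  Bool.rec (motive := fun _ => Bool) (Bool.rec (motive := fun _ => Bool) (lF3 T_w T_ui T_wi M (Nat.sub (T_u u) (Nat.mod (T_u u) M)) (Nat.mod (T_u u) M) u) (Bool.rec (motive := fun _ => Bool) (lDef P (nat_lit 6) (Nat.mod (T_u u) M) u) (lDef P (nat_lit 7) u (Nat.mod (T_u u) M)) (Nat.ble (nat_lit 4) j)) (Nat.ble (nat_lit 3) j)) (dp_u_12 j u) (Nat.ble (nat_lit 5) j)
noncomputable def disp_u (j u : ℕ) : Bool :=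
  Bool.rec (motive := fun _ => Bool) (Bool.rec (motive := fun _ => Bool) (lF1 T_ui M (Nat.sub (T_u u) (Nat.mod (T_u u) M)) (Nat.mod (T_u u) M) u) (lF3 T_wi T_ui T_w M (Nat.sub (T_u u) (Nat.mod (T_u u) M)) (Nat.mod (T_u u) M) u) (Nat.ble (nat_lit 1) j)) (dp_u_13 j u) (Nat.ble (nat_lit 2) j)
noncomputable def chk_u (j u : ℕ) : Bool :=
  Bool.rec (motive := fun _ => Bool) (disp_u j u) (Nat.ble (Nat.succ (MG u)) A) (Nat.ble A (T_u u))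
noncomputable def dp_ui_0 (j u : ℕ) : Bool :=
  Bool.rec (motive := fun _ => Bool) (lS MG [T_u] M (Nat.sub (T_ui u) (Nat.mod (T_ui u) M)) (nat_lit 40) (Nat.mod (T_ui u) M) u) (lF [T_a, T_ci, T_ci, T_ai] M (Nat.sub (T_ui u) (Nat.mod (T_ui u) M)) (Nat.mod (T_ui u) M) u) (Nat.ble (nat_lit 9) j)
noncomputable def dp_ui_1 (j u : ℕ) : Bool :=
  Bool.rec (motive := fun _ => Bool) (lF [T_bi, T_c, T_b, T_u, T_wi, T_bi, T_ci, T_b] M (Nat.sub (T_ui u) (Nat.mod (T_ui u) M)) (Nat.mod (T_ui u) M) u) (lS MG [T_w, T_u, T_wi] M (Nat.sub (T_ui u) (Nat.mod (T_ui u) M)) (nat_lit 40) (Nat.mod (T_ui u) M) u) (Nat.ble (nat_lit 13) j)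
noncomputable def dp_ui_2 (j u : ℕ) : Bool :=
  Bool.rec (motive := fun _ => Bool) (lS MG [T_v, T_u, T_vi] M (Nat.sub (T_ui u) (Nat.mod (T_ui u) M)) (nat_lit 40) (Nat.mod (T_ui u) M) u) (lF [T_bi, T_ci, T_b, T_u, T_bi, T_c, T_b, T_w] M (Nat.sub (T_ui u) (Nat.mod (T_ui u) M)) (Nat.mod (T_ui u) M) u) (Nat.ble (nat_lit 15) j)
noncomputable def dp_ui_3 (j u : ℕ) : Bool :=
  Bool.rec (motive := fun _ => Bool) (lS MG [T_vi, T_u, T_v] M (Nat.sub (T_ui u) (Nat.mod (T_ui u) M)) (nat_lit 40) (Nat.mod (T_ui u) M) u) (lS MG [T_wi, T_u, T_w] M (Nat.sub (T_ui u) (Nat.mod (T_ui u) M)) (nat_lit 40) (Nat.mod (T_ui u) M) u) (Nat.ble (nat_lit 19) j)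
noncomputable def dp_ui_4 (j u : ℕ) : Bool :=
  Bool.rec (motive := fun _ => Bool) (lS MG [T_bi, T_u, T_b, T_v, T_c, T_v, T_bi, T_ci, T_b] M (Nat.sub (T_ui u) (Nat.mod (T_ui u) M)) (nat_lit 40) (Nat.mod (T_ui u) M) u) (dp_ui_3 j u) (Nat.ble (nat_lit 18) j)
noncomputable def dp_ui_5 (j u : ℕ) : Bool :=
  Bool.rec (motive := fun _ => Bool) (lS MG [T_ai, T_c, T_a] M (Nat.sub (T_ui u) (Nat.mod (T_ui u) M)) (nat_lit 40) (Nat.mod (T_ui u) M) u) (dp_ui_4 j u) (Nat.ble (nat_lit 17) j)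
noncomputable def dp_ui_6 (j u : ℕ) : Bool :=
  Bool.rec (motive := fun _ => Bool) (dp_ui_2 j u) (dp_ui_5 j u) (Nat.ble (nat_lit 16) j)
noncomputable def dp_ui_7 (j u : ℕ) : Bool :=
  Bool.rec (motive := fun _ => Bool) (dp_ui_1 j u) (dp_ui_6 j u) (Nat.ble (nat_lit 14) j)
noncomputable def dp_ui_8 (j u : ℕ) : Bool :=
  Bool.rec (motive := fun _ => Bool) (lF [T_c, T_u, T_wi, T_ci] M (Nat.sub (T_ui u) (Nat.mod (T_ui u) M)) (Nat.mod (T_ui u) M) u) (dp_ui_7 j u) (Nat.ble (nat_lit 12) j)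
noncomputable def dp_ui_9 (j u : ℕ) : Bool :=
  Bool.rec (motive := fun _ => Bool) (lF [T_ci, T_u, T_c, T_w] M (Nat.sub (T_ui u) (Nat.mod (T_ui u) M)) (Nat.mod (T_ui u) M) u) (dp_ui_8 j u) (Nat.ble (nat_lit 11) j)
noncomputable def dp_ui_10 (j u : ℕ) : Bool :=
  Bool.rec (motive := fun _ => Bool) (dp_ui_0 j u) (dp_ui_9 j u) (Nat.ble (nat_lit 10) j)
noncomputable def dp_ui_11 (j u : ℕ) : Bool :=
  Bool.rec (motive := fun _ => Bool) (lF3 T_ai T_c T_a M (Nat.sub (T_ui u) (Nat.mod (T_ui u) M)) (Nat.mod (T_ui u) M) u) (dp_ui_10 j u) (Nat.ble (nat_lit 8) j)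
noncomputable def dp_ui_12 (j u : ℕ) : Bool :=
  Bool.rec (motive := fun _ => Bool) (Bool.rec (motive := fun _ => Bool) (lF3 T_v T_u T_vi M (Nat.sub (T_ui u) (Nat.mod (T_ui u) M)) (Nat.mod (T_ui u) M) u) (lF3 T_vi T_u T_v M (Nat.sub (T_ui u) (Nat.mod (T_ui u) M)) (Nat.mod (T_ui u) M) u) (Nat.ble (nat_lit 6) j)) (dp_ui_11 j u) (Nat.ble (nat_lit 7) j)
noncomputable def dp_ui_13 (j u : ℕ) : Bool :=
  Bool.rec (motive := fun _ => Bool) (Bool.rec (motive := fun _ => Bool) (lF3 T_wi T_u T_w M (Nat.sub (T_ui u) (Nat.mod (T_ui u) M)) (Nat.mod (T_ui u) M) u) (Bool.rec (motive := fun _ => Bool) (lDef P (nat_lit 6) u (Nat.mod (T_ui u) M)) (lDef P (nat_lit 7) (Nat.mod (T_ui u) M) u) (Nat.ble (nat_lit 4) j)) (Nat.ble (nat_lit 3) j)) (dp_ui_12 j u) (Nat.ble (nat_lit 5) j)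
noncomputable def disp_ui (j u : ℕ) : Bool :=
  Bool.rec (motive := fun _ => Bool) (Bool.rec (motive := fun _ => Bool) (lF1 T_u M (Nat.sub (T_ui u) (Nat.mod (T_ui u) M)) (Nat.mod (T_ui u) M) u) (lF3 T_w T_u T_wi M (Nat.sub (T_ui u) (Nat.mod (T_ui u) M)) (Nat.mod (T_ui u) M) u) (Nat.ble (nat_lit 1) j)) (dp_ui_13 j u) (Nat.ble (nat_lit 2) j)
noncomputable def chk_ui (j u : ℕ) : Bool :=
  Bool.rec (motive := fun _ => Bool) (disp_ui j u) (Nat.ble (Nat.succ (MG u)) A) (Nat.ble A (T_ui u))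
noncomputable def dp_v_0 (j u : ℕ) : Bool :=
  Bool.rec (motive := fun _ => Bool) (lF [T_wi, T_wi, T_ci, T_vi, T_c] M (Nat.sub (T_v u) (Nat.mod (T_v u) M)) (Nat.mod (T_v u) M) u) (lS MG [T_u, T_vi, T_ui] M (Nat.sub (T_v u) (Nat.mod (T_v u) M)) (nat_lit 40) (Nat.mod (T_v u) M) u) (Nat.ble (nat_lit 11) j)
noncomputable def dp_v_1 (j u : ℕ) : Bool :=
  Bool.rec (motive := fun _ => Bool) (lF [T_bi, T_c, T_b, T_wi, T_vi, T_bi, T_ci, T_b] M (Nat.sub (T_v u) (Nat.mod (T_v u) M)) (Nat.mod (T_v u) M) u) (lS MG [T_w, T_vi, T_wi] M (Nat.sub (T_v u) (Nat.mod (T_v u) M)) (nat_lit 40) (Nat.mod (T_v u) M) u) (Nat.ble (nat_lit 13) j)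
noncomputable def dp_v_2 (j u : ℕ) : Bool :=
  Bool.rec (motive := fun _ => Bool) (lS MG [T_bi, T_c, T_b, T_wi, T_vi, T_bi, T_ci, T_b] M (Nat.sub (T_v u) (Nat.mod (T_v u) M)) (nat_lit 40) (Nat.mod (T_v u) M) u) (lS MG [T_ui, T_vi, T_u] M (Nat.sub (T_v u) (Nat.mod (T_v u) M)) (nat_lit 40) (Nat.mod (T_v u) M) u) (Nat.ble (nat_lit 18) j)
noncomputable def dp_v_3 (j u : ℕ) : Bool :=
  Bool.rec (motive := fun _ => Bool) (lF [T_c, T_v, T_ai, T_vi, T_a, T_c, T_ui, T_bi, T_ci, T_b] M (Nat.sub (T_v u) (Nat.mod (T_v u) M)) (Nat.mod (T_v u) M) u) (dp_v_2 j u) (Nat.ble (nat_lit 17) j)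
noncomputable def dp_v_4 (j u : ℕ) : Bool :=
  Bool.rec (motive := fun _ => Bool) (lS MG [T_wi, T_vi, T_w] M (Nat.sub (T_v u) (Nat.mod (T_v u) M)) (nat_lit 40) (Nat.mod (T_v u) M) u) (dp_v_3 j u) (Nat.ble (nat_lit 16) j)
noncomputable def dp_v_5 (j u : ℕ) : Bool :=
  Bool.rec (motive := fun _ => Bool) (lS MG [T_b, T_ci, T_bi] M (Nat.sub (T_v u) (Nat.mod (T_v u) M)) (nat_lit 40) (Nat.mod (T_v u) M) u) (dp_v_4 j u) (Nat.ble (nat_lit 15) j)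
noncomputable def dp_v_6 (j u : ℕ) : Bool :=
  Bool.rec (motive := fun _ => Bool) (dp_v_1 j u) (dp_v_5 j u) (Nat.ble (nat_lit 14) j)
noncomputable def dp_v_7 (j u : ℕ) : Bool :=
  Bool.rec (motive := fun _ => Bool) (dp_v_0 j u) (dp_v_6 j u) (Nat.ble (nat_lit 12) j)
noncomputable def dp_v_8 (j u : ℕ) : Bool :=
  Bool.rec (motive := fun _ => Bool) (lF [T_c, T_w, T_w, T_vi, T_ci] M (Nat.sub (T_v u) (Nat.mod (T_v u) M)) (Nat.mod (T_v u) M) u) (dp_v_7 j u) (Nat.ble (nat_lit 10) j)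
noncomputable def dp_v_9 (j u : ℕ) : Bool :=
  Bool.rec (motive := fun _ => Bool) (lS MG [T_vi] M (Nat.sub (T_v u) (Nat.mod (T_v u) M)) (nat_lit 40) (Nat.mod (T_v u) M) u) (dp_v_8 j u) (Nat.ble (nat_lit 9) j)
noncomputable def dp_v_10 (j u : ℕ) : Bool :=
  Bool.rec (motive := fun _ => Bool) (lF3 T_b T_ci T_bi M (Nat.sub (T_v u) (Nat.mod (T_v u) M)) (Nat.mod (T_v u) M) u) (dp_v_9 j u) (Nat.ble (nat_lit 8) j)
noncomputable def dp_v_11 (j u : ℕ) : Bool :=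
  Bool.rec (motive := fun _ => Bool) (lF3 T_u T_vi T_ui M (Nat.sub (T_v u) (Nat.mod (T_v u) M)) (Nat.mod (T_v u) M) u) (dp_v_10 j u) (Nat.ble (nat_lit 7) j)
noncomputable def dp_v_12 (j u : ℕ) : Bool :=
  Bool.rec (motive := fun _ => Bool) (Bool.rec (motive := fun _ => Bool) (lF3 T_w T_vi T_wi M (Nat.sub (T_v u) (Nat.mod (T_v u) M)) (Nat.mod (T_v u) M) u) (lF3 T_ui T_vi T_u M (Nat.sub (T_v u) (Nat.mod (T_v u) M)) (Nat.mod (T_v u) M) u) (Nat.ble (nat_lit 5) j)) (dp_v_11 j u) (Nat.ble (nat_lit 6) j)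
noncomputable def disp_v (j u : ℕ) : Bool :=
  Bool.rec (motive := fun _ => Bool) (Bool.rec (motive := fun _ => Bool) (lF1 T_vi M (Nat.sub (T_v u) (Nat.mod (T_v u) M)) (Nat.mod (T_v u) M) u) (lDef P (nat_lit 8) (Nat.mod (T_v u) M) u) (Nat.ble (nat_lit 1) j)) (Bool.rec (motive := fun _ => Bool) (Bool.rec (motive := fun _ => Bool) (lDef P (nat_lit 9) u (Nat.mod (T_v u) M)) (lF3 T_wi T_vi T_w M (Nat.sub (T_v u) (Nat.mod (T_v u) M)) (Nat.mod (T_v u) M) u) (Nat.ble (nat_lit 3) j)) (dp_v_12 j u) (Nat.ble (nat_lit 4) j)) (Nat.ble (nat_lit 2) j)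
noncomputable def chk_v (j u : ℕ) : Bool :=
  Bool.rec (motive := fun _ => Bool) (disp_v j u) (Nat.ble (Nat.succ (MG u)) A) (Nat.ble A (T_v u))
noncomputable def dp_vi_0 (j u : ℕ) : Bool :=
  Bool.rec (motive := fun _ => Bool) (lS MG [T_v] M (Nat.sub (T_vi u) (Nat.mod (T_vi u) M)) (nat_lit 40) (Nat.mod (T_vi u) M) u) (lF [T_ci, T_v, T_c, T_w, T_w] M (Nat.sub (T_vi u) (Nat.mod (T_vi u) M)) (Nat.mod (T_vi u) M) u) (Nat.ble (nat_lit 9) j)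
noncomputable def dp_vi_1 (j u : ℕ) : Bool :=
  Bool.rec (motive := fun _ => Bool) (lF [T_c, T_v, T_wi, T_wi, T_ci] M (Nat.sub (T_vi u) (Nat.mod (T_vi u) M)) (Nat.mod (T_vi u) M) u) (lS MG [T_u, T_v, T_ui] M (Nat.sub (T_vi u) (Nat.mod (T_vi u) M)) (nat_lit 40) (Nat.mod (T_vi u) M) u) (Nat.ble (nat_lit 11) j)
noncomputable def dp_vi_2 (j u : ℕ) : Bool :=
  Bool.rec (motive := fun _ => Bool) (lS MG [T_b, T_c, T_bi] M (Nat.sub (T_vi u) (Nat.mod (T_vi u) M)) (nat_lit 40) (Nat.mod (T_vi u) M) u) (lS MG [T_w, T_v, T_wi] M (Nat.sub (T_vi u) (Nat.mod (T_vi u) M)) (nat_lit 40) (Nat.mod (T_vi u) M) u) (Nat.ble (nat_lit 14) j)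
noncomputable def dp_vi_3 (j u : ℕ) : Bool :=
  Bool.rec (motive := fun _ => Bool) (lS MG [T_wi, T_v, T_w] M (Nat.sub (T_vi u) (Nat.mod (T_vi u) M)) (nat_lit 40) (Nat.mod (T_vi u) M) u) (dp_vi_2 j u) (Nat.ble (nat_lit 13) j)
noncomputable def dp_vi_4 (j u : ℕ) : Bool :=
  Bool.rec (motive := fun _ => Bool) (lS MG [T_ui, T_v, T_u] M (Nat.sub (T_vi u) (Nat.mod (T_vi u) M)) (nat_lit 40) (Nat.mod (T_vi u) M) u) (lF [T_bi, T_c, T_b, T_v, T_w, T_bi, T_ci, T_b] M (Nat.sub (T_vi u) (Nat.mod (T_vi u) M)) (Nat.mod (T_vi u) M) u) (Nat.ble (nat_lit 16) j)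
noncomputable def dp_vi_5 (j u : ℕ) : Bool :=
  Bool.rec (motive := fun _ => Bool) (lF [T_ci, T_vi, T_bi, T_ui, T_b, T_u, T_bi, T_c, T_b] M (Nat.sub (T_vi u) (Nat.mod (T_vi u) M)) (Nat.mod (T_vi u) M) u) (lS MG [T_c, T_v, T_wi, T_wi, T_ci] M (Nat.sub (T_vi u) (Nat.mod (T_vi u) M)) (nat_lit 40) (Nat.mod (T_vi u) M) u) (Nat.ble (nat_lit 19) j)
noncomputable def dp_vi_6 (j u : ℕ) : Bool :=
  Bool.rec (motive := fun _ => Bool) (lF [T_bi, T_ci, T_b, T_v, T_bi, T_c, T_b, T_wi] M (Nat.sub (T_vi u) (Nat.mod (T_vi u) M)) (Nat.mod (T_vi u) M) u) (dp_vi_5 j u) (Nat.ble (nat_lit 18) j)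
noncomputable def dp_vi_7 (j u : ℕ) : Bool :=
  Bool.rec (motive := fun _ => Bool) (dp_vi_4 j u) (dp_vi_6 j u) (Nat.ble (nat_lit 17) j)
noncomputable def dp_vi_8 (j u : ℕ) : Bool :=
  Bool.rec (motive := fun _ => Bool) (dp_vi_3 j u) (dp_vi_7 j u) (Nat.ble (nat_lit 15) j)
noncomputable def dp_vi_9 (j u : ℕ) : Bool :=
  Bool.rec (motive := fun _ => Bool) (dp_vi_1 j u) (dp_vi_8 j u) (Nat.ble (nat_lit 12) j)
noncomputable def dp_vi_10 (j u : ℕ) : Bool :=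
  Bool.rec (motive := fun _ => Bool) (dp_vi_0 j u) (dp_vi_9 j u) (Nat.ble (nat_lit 10) j)
noncomputable def dp_vi_11 (j u : ℕ) : Bool :=
  Bool.rec (motive := fun _ => Bool) (lF3 T_b T_c T_bi M (Nat.sub (T_vi u) (Nat.mod (T_vi u) M)) (Nat.mod (T_vi u) M) u) (dp_vi_10 j u) (Nat.ble (nat_lit 8) j)
noncomputable def dp_vi_12 (j u : ℕ) : Bool :=
  Bool.rec (motive := fun _ => Bool) (lF3 T_ui T_v T_u M (Nat.sub (T_vi u) (Nat.mod (T_vi u) M)) (Nat.mod (T_vi u) M) u) (dp_vi_11 j u) (Nat.ble (nat_lit 7) j)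
noncomputable def dp_vi_13 (j u : ℕ) : Bool :=
  Bool.rec (motive := fun _ => Bool) (Bool.rec (motive := fun _ => Bool) (lF3 T_w T_v T_wi M (Nat.sub (T_vi u) (Nat.mod (T_vi u) M)) (Nat.mod (T_vi u) M) u) (lF3 T_u T_v T_ui M (Nat.sub (T_vi u) (Nat.mod (T_vi u) M)) (Nat.mod (T_vi u) M) u) (Nat.ble (nat_lit 5) j)) (dp_vi_12 j u) (Nat.ble (nat_lit 6) j)
noncomputable def disp_vi (j u : ℕ) : Bool :=
  Bool.rec (motive := fun _ => Bool) (Bool.rec (motive := fun _ => Bool) (lF1 T_v M (Nat.sub (T_vi u) (Nat.mod (T_vi u) M)) (Nat.mod (T_vi u) M) u) (lDef P (nat_lit 8) u (Nat.mod (T_vi u) M)) (Nat.ble (nat_lit 1) j)) (Bool.rec (motive := fun _ => Bool) (Bool.rec (motive := fun _ => Bool) (lDef P (nat_lit 9) (Nat.mod (T_vi u) M) u) (lF3 T_wi T_v T_w M (Nat.sub (T_vi u) (Nat.mod (T_vi u) M)) (Nat.mod (T_vi u) M) u) (Nat.ble (nat_lit 3) j)) (dp_vi_13 j u)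 (Nat.ble (nat_lit 4) j)) (Nat.ble (nat_lit 2) j)
noncomputable def chk_vi (j u : ℕ) : Bool :=
  Bool.rec (motive := fun _ => Bool) (disp_vi j u) (Nat.ble (Nat.succ (MG u)) A) (Nat.ble A (T_vi u))
noncomputable def dp_w_0 (j u : ℕ) : Bool :=
  Bool.rec (motive := fun _ => Bool) (lF3 T_c T_wi T_ci M (Nat.sub (T_w u) (Nat.mod (T_w u) M)) (Nat.mod (T_w u) M) u) (lF3 T_ui T_wi T_u M (Nat.sub (T_w u) (Nat.mod (T_w u) M)) (Nat.mod (T_w u) M) u) (Nat.ble (nat_lit 5) j)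
noncomputable def dp_w_1 (j u : ℕ) : Bool :=
  Bool.rec (motive := fun _ => Bool) (lF3 T_bi T_wi T_b M (Nat.sub (T_w u) (Nat.mod (T_w u) M)) (Nat.mod (T_w u) M) u) (lF3 T_v T_wi T_vi M (Nat.sub (T_w u) (Nat.mod (T_w u) M)) (Nat.mod (T_w u) M) u) (Nat.ble (nat_lit 8) j)
noncomputable def dp_w_2 (j u : ℕ) : Bool :=
  Bool.rec (motive := fun _ => Bool) (lF3 T_b T_wi T_bi M (Nat.sub (T_w u) (Nat.mod (T_w u) M)) (Nat.mod (T_w u) M) u) (lF3 T_vi T_wi T_v M (Nat.sub (T_w u) (Nat.mod (T_w u) M)) (Nat.mod (T_w u) M) u) (Nat.ble (nat_lit 10) j)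
noncomputable def dp_w_3 (j u : ℕ) : Bool :=
  Bool.rec (motive := fun _ => Bool) (lS MG [T_wi] M (Nat.sub (T_w u) (Nat.mod (T_w u) M)) (nat_lit 40) (Nat.mod (T_w u) M) u) (lF [T_a, T_wi, T_wi, T_ai] M (Nat.sub (T_w u) (Nat.mod (T_w u) M)) (Nat.mod (T_w u) M) u) (Nat.ble (nat_lit 12) j)
noncomputable def dp_w_4 (j u : ℕ) : Bool :=
  Bool.rec (motive := fun _ => Bool) (lF [T_ai, T_wi, T_a, T_w] M (Nat.sub (T_w u) (Nat.mod (T_w u) M)) (Nat.mod (T_w u) M) u) (lF [T_w, T_w, T_w, T_w] M (Nat.sub (T_w u) (Nat.mod (T_w u) M)) (Nat.mod (T_w u) M) u) (Nat.ble (nat_lit 14) j)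
noncomputable def dp_w_5 (j u : ℕ) : Bool :=
  Bool.rec (motive := fun _ => Bool) (lF [T_w, T_ai, T_wi, T_a] M (Nat.sub (T_w u) (Nat.mod (T_w u) M)) (Nat.mod (T_w u) M) u) (lS MG [T_c, T_wi, T_ci] M (Nat.sub (T_w u) (Nat.mod (T_w u) M)) (nat_lit 40) (Nat.mod (T_w u) M) u) (Nat.ble (nat_lit 17) j)
noncomputable def dp_w_6 (j u : ℕ) : Bool :=
  Bool.rec (motive := fun _ => Bool) (lF [T_ui, T_ci, T_u, T_c] M (Nat.sub (T_w u) (Nat.mod (T_w u) M)) (Nat.mod (T_w u) M) u) (dp_w_5 j u) (Nat.ble (nat_lit 16) j)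
noncomputable def dp_w_7 (j u : ℕ) : Bool :=
  Bool.rec (motive := fun _ => Bool) (lS MG [T_ci, T_wi, T_c] M (Nat.sub (T_w u) (Nat.mod (T_w u) M)) (nat_lit 40) (Nat.mod (T_w u) M) u) (lS MG [T_u, T_wi, T_ui] M (Nat.sub (T_w u) (Nat.mod (T_w u) M)) (nat_lit 40) (Nat.mod (T_w u) M) u) (Nat.ble (nat_lit 20) j)
noncomputable def dp_w_8 (j u : ℕ) : Bool :=
  Bool.rec (motive := fun _ => Bool) (lS MG [T_b, T_wi, T_bi] M (Nat.sub (T_w u) (Nat.mod (T_w u) M)) (nat_lit 40) (Nat.mod (T_w u) M) u) (dp_w_7 j u) (Nat.ble (nat_lit 19) j)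
noncomputable def dp_w_9 (j u : ℕ) : Bool :=
  Bool.rec (motive := fun _ => Bool) (lS MG [T_vi, T_wi, T_v] M (Nat.sub (T_w u) (Nat.mod (T_w u) M)) (nat_lit 40) (Nat.mod (T_w u) M) u) (lF [T_vi, T_ci, T_v, T_c, T_w] M (Nat.sub (T_w u) (Nat.mod (T_w u) M)) (Nat.mod (T_w u) M) u) (Nat.ble (nat_lit 23) j)
noncomputable def dp_w_10 (j u : ℕ) : Bool :=
  Bool.rec (motive := fun _ => Bool) (lF [T_w, T_vi, T_ci, T_v, T_c] M (Nat.sub (T_w u) (Nat.mod (T_w u) M)) (Nat.mod (T_w u) M) u) (dp_w_9 j u) (Nat.ble (nat_lit 22) j)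
noncomputable def dp_w_11 (j u : ℕ) : Bool :=
  Bool.rec (motive := fun _ => Bool) (lS MG [T_v, T_wi, T_vi] M (Nat.sub (T_w u) (Nat.mod (T_w u) M)) (nat_lit 40) (Nat.mod (T_w u) M) u) (lS MG [T_bi, T_wi, T_b] M (Nat.sub (T_w u) (Nat.mod (T_w u) M)) (nat_lit 40) (Nat.mod (T_w u) M) u) (Nat.ble (nat_lit 25) j)
noncomputable def dp_w_12 (j u : ℕ) : Bool :=
  Bool.rec (motive := fun _ => Bool) (lS MG [T_ui, T_wi, T_u] M (Nat.sub (T_w u) (Nat.mod (T_w u) M)) (nat_lit 40) (Nat.mod (T_w u) M) u) (lS MG [T_ui, T_bi, T_ci, T_b, T_u, T_bi, T_c, T_b] M (Nat.sub (T_w u) (Nat.mod (T_w u) M)) (nat_lit 40) (Nat.mod (T_w u) M) u) (Nat.ble (nat_lit 28) j)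
noncomputable def dp_w_13 (j u : ℕ) : Bool :=
  Bool.rec (motive := fun _ => Bool) (lF [T_ui, T_bi, T_ci, T_b, T_u, T_bi, T_c, T_b] M (Nat.sub (T_w u) (Nat.mod (T_w u) M)) (Nat.mod (T_w u) M) u) (dp_w_12 j u) (Nat.ble (nat_lit 27) j)
noncomputable def dp_w_14 (j u : ℕ) : Bool :=
  Bool.rec (motive := fun _ => Bool) (dp_w_11 j u) (dp_w_13 j u) (Nat.ble (nat_lit 26) j)
noncomputable def dp_w_15 (j u : ℕ) : Bool :=
  Bool.rec (motive := fun _ => Bool) (dp_w_10 j u) (dp_w_14 j u) (Nat.ble (nat_lit 24) j)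
noncomputable def dp_w_16 (j u : ℕ) : Bool :=
  Bool.rec (motive := fun _ => Bool) (dp_w_8 j u) (dp_w_15 j u) (Nat.ble (nat_lit 21) j)
noncomputable def dp_w_17 (j u : ℕ) : Bool :=
  Bool.rec (motive := fun _ => Bool) (dp_w_6 j u) (dp_w_16 j u) (Nat.ble (nat_lit 18) j)
noncomputable def dp_w_18 (j u : ℕ) : Bool :=
  Bool.rec (motive := fun _ => Bool) (dp_w_4 j u) (dp_w_17 j u) (Nat.ble (nat_lit 15) j)
noncomputable def dp_w_19 (j u : ℕ) : Bool :=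
  Bool.rec (motive := fun _ => Bool) (dp_w_3 j u) (dp_w_18 j u) (Nat.ble (nat_lit 13) j)
noncomputable def dp_w_20 (j u : ℕ) : Bool :=
  Bool.rec (motive := fun _ => Bool) (dp_w_2 j u) (dp_w_19 j u) (Nat.ble (nat_lit 11) j)
noncomputable def dp_w_21 (j u : ℕ) : Bool :=
  Bool.rec (motive := fun _ => Bool) (Bool.rec (motive := fun _ => Bool) (lF3 T_ci T_wi T_c M (Nat.sub (T_w u) (Nat.mod (T_w u) M)) (Nat.mod (T_w u) M) u) (dp_w_1 j u) (Nat.ble (nat_lit 7) j)) (dp_w_20 j u) (Nat.ble (nat_lit 9) j)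
noncomputable def dp_w_22 (j u : ℕ) : Bool :=
  Bool.rec (motive := fun _ => Bool) (Bool.rec (motive := fun _ => Bool) (Bool.rec (motive := fun _ => Bool) (lDef P (nat_lit 11) u (Nat.mod (T_w u) M)) (lF3 T_u T_wi T_ui M (Nat.sub (T_w u) (Nat.mod (T_w u) M)) (Nat.mod (T_w u) M) u) (Nat.ble (nat_lit 3) j)) (dp_w_0 j u) (Nat.ble (nat_lit 4) j)) (dp_w_21 j u) (Nat.ble (nat_lit 6) j)
noncomputable def disp_w (j u : ℕ) : Bool :=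
  Bool.rec (motive := fun _ => Bool) (Bool.rec (motive := fun _ => Bool) (lF1 T_wi M (Nat.sub (T_w u) (Nat.mod (T_w u) M)) (Nat.mod (T_w u) M) u) (lDef P (nat_lit 10) (Nat.mod (T_w u) M) u) (Nat.ble (nat_lit 1) j)) (dp_w_22 j u) (Nat.ble (nat_lit 2) j)
noncomputable def chk_w (j u : ℕ) : Bool :=
  Bool.rec (motive := fun _ => Bool) (disp_w j u) (Nat.ble (Nat.succ (MG u)) A) (Nat.ble A (T_w u))
noncomputable def dp_wi_0 (j u : ℕ) : Bool :=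
  Bool.rec (motive := fun _ => Bool) (lF3 T_ui T_w T_u M (Nat.sub (T_wi u) (Nat.mod (T_wi u) M)) (Nat.mod (T_wi u) M) u) (lF3 T_c T_w T_ci M (Nat.sub (T_wi u) (Nat.mod (T_wi u) M)) (Nat.mod (T_wi u) M) u) (Nat.ble (nat_lit 5) j)
noncomputable def dp_wi_1 (j u : ℕ) : Bool :=
  Bool.rec (motive := fun _ => Bool) (lF3 T_bi T_w T_b M (Nat.sub (T_wi u) (Nat.mod (T_wi u) M)) (Nat.mod (T_wi u) M) u) (lF3 T_b T_w T_bi M (Nat.sub (T_wi u) (Nat.mod (T_wi u) M)) (Nat.mod (T_wi u) M) u) (Nat.ble (nat_lit 8) j)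
noncomputable def dp_wi_2 (j u : ℕ) : Bool :=
  Bool.rec (motive := fun _ => Bool) (lF3 T_v T_w T_vi M (Nat.sub (T_wi u) (Nat.mod (T_wi u) M)) (Nat.mod (T_wi u) M) u) (lF3 T_vi T_w T_v M (Nat.sub (T_wi u) (Nat.mod (T_wi u) M)) (Nat.mod (T_wi u) M) u) (Nat.ble (nat_lit 10) j)
noncomputable def dp_wi_3 (j u : ℕ) : Bool :=
  Bool.rec (motive := fun _ => Bool) (lF [T_a, T_w, T_w, T_ai] M (Nat.sub (T_wi u) (Nat.mod (T_wi u) M)) (Nat.mod (T_wi u) M) u) (lS MG [T_w] M (Nat.sub (T_wi u) (Nat.mod (T_wi u) M)) (nat_lit 40) (Nat.mod (T_wi u) M) u) (Nat.ble (nat_lit 12) j)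
noncomputable def dp_wi_4 (j u : ℕ) : Bool :=
  Bool.rec (motive := fun _ => Bool) (lF [T_ci, T_ui, T_c, T_u] M (Nat.sub (T_wi u) (Nat.mod (T_wi u) M)) (Nat.mod (T_wi u) M) u) (lF [T_ai, T_w, T_a, T_wi] M (Nat.sub (T_wi u) (Nat.mod (T_wi u) M)) (Nat.mod (T_wi u) M) u) (Nat.ble (nat_lit 14) j)
noncomputable def dp_wi_5 (j u : ℕ) : Bool :=
  Bool.rec (motive := fun _ => Bool) (lF [T_wi, T_ai, T_w, T_a] M (Nat.sub (T_wi u) (Nat.mod (T_wi u) M)) (Nat.mod (T_wi u) M) u) (lF [T_ci, T_vi, T_c, T_v, T_wi] M (Nat.sub (T_wi u) (Nat.mod (T_wi u) M)) (Nat.mod (T_wi u) M) u) (Nat.ble (nat_lit 16) j)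
noncomputable def dp_wi_6 (j u : ℕ) : Bool :=
  Bool.rec (motive := fun _ => Bool) (lS MG [T_v, T_w, T_vi] M (Nat.sub (T_wi u) (Nat.mod (T_wi u) M)) (nat_lit 40) (Nat.mod (T_wi u) M) u) (lS MG [T_b, T_w, T_bi] M (Nat.sub (T_wi u) (Nat.mod (T_wi u) M)) (nat_lit 40) (Nat.mod (T_wi u) M) u) (Nat.ble (nat_lit 18) j)
noncomputable def dp_wi_7 (j u : ℕ) : Bool :=
  Bool.rec (motive := fun _ => Bool) (dp_wi_5 j u) (dp_wi_6 j u) (Nat.ble (nat_lit 17) j)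
noncomputable def dp_wi_8 (j u : ℕ) : Bool :=
  Bool.rec (motive := fun _ => Bool) (lS MG [T_u, T_w, T_ui] M (Nat.sub (T_wi u) (Nat.mod (T_wi u) M)) (nat_lit 40) (Nat.mod (T_wi u) M) u) (lS MG [T_ci, T_w, T_c] M (Nat.sub (T_wi u) (Nat.mod (T_wi u) M)) (nat_lit 40) (Nat.mod (T_wi u) M) u) (Nat.ble (nat_lit 21) j)
noncomputable def dp_wi_9 (j u : ℕ) : Bool :=
  Bool.rec (motive := fun _ => Bool) (lS MG [T_c, T_w, T_ci] M (Nat.sub (T_wi u) (Nat.mod (T_wi u) M)) (nat_lit 40) (Nat.mod (T_wi u) M) u) (dp_wi_8 j u) (Nat.ble (nat_lit 20) j)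
noncomputable def dp_wi_10 (j u : ℕ) : Bool :=
  Bool.rec (motive := fun _ => Bool) (lS MG [T_ui, T_w, T_u] M (Nat.sub (T_wi u) (Nat.mod (T_wi u) M)) (nat_lit 40) (Nat.mod (T_wi u) M) u) (lS MG [T_vi, T_w, T_v] M (Nat.sub (T_wi u) (Nat.mod (T_wi u) M)) (nat_lit 40) (Nat.mod (T_wi u) M) u) (Nat.ble (nat_lit 23) j)
noncomputable def dp_wi_11 (j u : ℕ) : Bool :=
  Bool.rec (motive := fun _ => Bool) (lS MG [T_a, T_w, T_w, T_ai] M (Nat.sub (T_wi u) (Nat.mod (T_wi u) M)) (nat_lit 40) (Nat.mod (T_wi u) M) u) (lS MG [T_bi, T_w, T_b] M (Nat.sub (T_wi u) (Nat.mod (T_wi u) M)) (nat_lit 40) (Nat.mod (T_wi u) M) u) (Nat.ble (nat_lit 27) j)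
noncomputable def dp_wi_12 (j u : ℕ) : Bool :=
  Bool.rec (motive := fun _ => Bool) (lF [T_wi, T_ci, T_vi, T_c, T_v] M (Nat.sub (T_wi u) (Nat.mod (T_wi u) M)) (Nat.mod (T_wi u) M) u) (dp_wi_11 j u) (Nat.ble (nat_lit 26) j)
noncomputable def dp_wi_13 (j u : ℕ) : Bool :=
  Bool.rec (motive := fun _ => Bool) (lF [T_wi, T_wi, T_wi, T_wi] M (Nat.sub (T_wi u) (Nat.mod (T_wi u) M)) (Nat.mod (T_wi u) M) u) (dp_wi_12 j u) (Nat.ble (nat_lit 25) j)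
noncomputable def dp_wi_14 (j u : ℕ) : Bool :=
  Bool.rec (motive := fun _ => Bool) (dp_wi_10 j u) (dp_wi_13 j u) (Nat.ble (nat_lit 24) j)
noncomputable def dp_wi_15 (j u : ℕ) : Bool :=
  Bool.rec (motive := fun _ => Bool) (dp_wi_9 j u) (dp_wi_14 j u) (Nat.ble (nat_lit 22) j)
noncomputable def dp_wi_16 (j u : ℕ) : Bool :=
  Bool.rec (motive := fun _ => Bool) (dp_wi_7 j u) (dp_wi_15 j u) (Nat.ble (nat_lit 19) j)
noncomputable def dp_wi_17 (j u : ℕ) : Bool :=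
  Bool.rec (motive := fun _ => Bool) (dp_wi_4 j u) (dp_wi_16 j u) (Nat.ble (nat_lit 15) j)
noncomputable def dp_wi_18 (j u : ℕ) : Bool :=
  Bool.rec (motive := fun _ => Bool) (dp_wi_3 j u) (dp_wi_17 j u) (Nat.ble (nat_lit 13) j)
noncomputable def dp_wi_19 (j u : ℕ) : Bool :=
  Bool.rec (motive := fun _ => Bool) (dp_wi_2 j u) (dp_wi_18 j u) (Nat.ble (nat_lit 11) j)
noncomputable def dp_wi_20 (j u : ℕ) : Bool :=
  Bool.rec (motive := fun _ => Bool) (Bool.rec (motive := fun _ => Bool) (lF3 T_ci T_w T_c M (Nat.sub (T_wi u) (Nat.mod (T_wi u) M)) (Nat.mod (T_wi u) M) u) (dp_wi_1 j u) (Nat.ble (nat_lit 7) j)) (dp_wi_19 j u) (Nat.ble (nat_lit 9) j)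
noncomputable def disp_wi (j u : ℕ) : Bool :=
  Bool.rec (motive := fun _ => Bool) (Bool.rec (motive := fun _ => Bool) (lF1 T_w M (Nat.sub (T_wi u) (Nat.mod (T_wi u) M)) (Nat.mod (T_wi u) M) u) (lDef P (nat_lit 10) u (Nat.mod (T_wi u) M)) (Nat.ble (nat_lit 1) j)) (Bool.rec (motive := fun _ => Bool) (Bool.rec (motive := fun _ => Bool) (Bool.rec (motive := fun _ => Bool) (lDef P (nat_lit 11) (Nat.mod (T_wi u) M) u) (lF3 T_u T_w T_ui M (Nat.sub (T_wi u) (Nat.mod (T_wi u) M)) (Nat.mod (T_wi u) M) u) (Nat.ble (nat_lit 3) j)) (dp_wi_0 j u) (Nat.ble (nat_lit 4) j)) (dp_wi_20 j u) (Nat.ble (nat_lit 6) j)) (Nat.ble (nat_lit 2) j)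
noncomputable def chk_wi (j u : ℕ) : Bool :=
  Bool.rec (motive := fun _ => Bool) (disp_wi j u) (Nat.ble (Nat.succ (MG u)) A) (Nat.ble A (T_wi u))
noncomputable def dM_0 (j z1 z2 u : ℕ) : Bool :=
  Bool.rec (motive := fun _ => Bool) (Bool.rec (motive := fun _ => Bool) (mCo MG T_a M (Nat.sub (MG u) (Nat.mod (MG u) M)) (nat_lit 40) z1 z2 u (Nat.mod (MG u) M)) (mCo MG T_c M (Nat.sub (MG u) (Nat.mod (MG u) M)) (nat_lit 40) z1 z2 u (Nat.mod (MG u) M)) (Nat.ble (nat_lit 1) j)) (Bool.rec (motive := fun _ => Bool) (mCo MG T_w M (Nat.sub (MG u) (Nat.mod (MG u) M)) (nat_lit 40) z1 z2 u (Nat.mod (MG u) M)) (mCo MG T_wi M (Nat.sub (MG u) (Nat.mod (MG u) M)) (nat_lit 40) z1 z2 u (Nat.mod (MG u) M)) (Nat.ble (nat_lit 3) j)) (Nat.ble (nat_lit 2) j)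
noncomputable def dM_1 (j z1 z2 u : ℕ) : Bool :=
  Bool.rec (motive := fun _ => Bool) (Bool.rec (motive := fun _ => Bool) (mCo MG T_ci M (Nat.sub (MG u) (Nat.mod (MG u) M)) (nat_lit 40) z1 z2 u (Nat.mod (MG u) M)) (Bool.rec (motive := fun _ => Bool) (mCo MG T_bi M (Nat.sub (MG u) (Nat.mod (MG u) M)) (nat_lit 40) z1 z2 u (Nat.mod (MG u) M)) (mCo MG T_b M (Nat.sub (MG u) (Nat.mod (MG u) M)) (nat_lit 40) z1 z2 u (Nat.mod (MG u) M)) (Nat.ble (nat_lit 6) j)) (Nat.ble (nat_lit 5) j)) (Bool.rec (motive := fun _ => Bool) (Bool.rec (motive := fun _ => Bool) (mCo MG T_ai M (Nat.sub (MG u) (Nat.mod (MG u) M)) (nat_lit 40) z1 z2 u (Nat.mod (MG u) M)) (mCo MG T_v M (Nat.sub (MG u) (Nat.mod (MG u) M)) (nat_lit 40) z1 z2 u (Nat.mod (MG u) M)) (Nat.ble (nat_lit 8) j)) (Bool.rec (motive := fun _ => Bool) (Bool.rec (motive := fun _ => Bool) (mRel MG [T_ci, T_w]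 [T_w, T_ci] M (Nat.sub (MG u) (Nat.mod (MG u) M)) (nat_lit 40) z1 u (Nat.mod (MG u) M)) (mCo MG T_u M (Nat.sub (MG u) (Nat.mod (MG u) M)) (nat_lit 40) z1 z2 u (Nat.mod (MG u) M)) (Nat.ble (nat_lit 10) j)) (Bool.rec (motive := fun _ => Bool) (mCo MG T_ui M (Nat.sub (MG u) (Nat.mod (MG u) M)) (nat_lit 40) z1 z2 u (Nat.mod (MG u) M)) (mRel MG [T_u, T_wi] [T_wi, T_u] M (Nat.sub (MG u) (Nat.mod (MG u) M)) (nat_lit 40) z1 u (Nat.mod (MG u) M)) (Nat.ble (nat_lit 12) j)) (Nat.ble (nat_lit 11) j)) (Nat.ble (nat_lit 9) j)) (Nat.ble (nat_lit 7) j)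
noncomputable def dM_2 (j z1 z2 u : ℕ) : Bool :=
  Bool.rec (motive := fun _ => Bool) (dM_0 j z1 z2 u) (dM_1 j z1 z2 u) (Nat.ble (nat_lit 4) j)
noncomputable def dM_3 (j z1 z2 u : ℕ) : Bool :=
  Bool.rec (motive := fun _ => Bool) (Bool.rec (motive := fun _ => Bool) (Bool.rec (motive := fun _ => Bool) (mRel MG [T_v, T_wi] [T_wi, T_v] M (Nat.sub (MG u) (Nat.mod (MG u) M)) (nat_lit 40) z1 u (Nat.mod (MG u) M)) (Bool.rec (motive := fun _ => Bool) (mRel MG [T_ai, T_ai] [T_b, T_ai, T_ai, T_bi] M (Nat.sub (MG u) (Nat.mod (MG u) M)) (nat_lit 40) z1 u (Nat.mod (MG u) M)) (mRel MG [T_ci, T_w, T_c] [T_w] M (Nat.sub (MG u) (Nat.mod (MG u) M)) (nat_lit 40) z1 u (Nat.mod (MG u) M)) (Nat.ble (nat_lit 15) j)) (Nat.ble (nat_lit 14) j)) (Bool.rec (motive := fun _ => Bool) (mRel MG [T_ci, T_bi] [T_bi, T_vi] M (Nat.sub (MG u) (Nat.mod (MG u) M)) (nat_lit 40) z1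 u (Nat.mod (MG u) M)) (Bool.rec (motive := fun _ => Bool) (mCo MG T_vi M (Nat.sub (MG u) (Nat.mod (MG u) M)) (nat_lit 40) z1 z2 u (Nat.mod (MG u) M)) (mRel MG [T_a, T_ui] [T_ci, T_a] M (Nat.sub (MG u) (Nat.mod (MG u) M)) (nat_lit 40) z1 u (Nat.mod (MG u) M)) (Nat.ble (nat_lit 18) j)) (Nat.ble (nat_lit 17) j)) (Nat.ble (nat_lit 16) j)) (Bool.rec (motive := fun _ => Bool) (Bool.rec (motive := fun _ => Bool) (mRel MG [T_vi, T_b] [T_b, T_ci] M (Nat.sub (MG u) (Nat.mod (MG u) M)) (nat_lit 40) z1 u (Nat.mod (MG u) M)) (Bool.rec (motive := fun _ => Bool) (mRel MG [T_b, T_wi, T_bi] [T_wi] M (Nat.sub (MG u) (Nat.mod (MG u) M)) (nat_lit 40) z1 u (Nat.mod (MG u) M)) (mRel MG [T_bi, T_w] [T_w, T_bi] M (Nat.sub (MG u) (Nat.mod (MG u) M)) (nat_lit 40) z1 u (Nat.mod (MG u) M)) (Nat.ble (nat_lit 21) j)) (Nat.ble (nat_lit 20) j)) (Bool.rec (motive := fun _ =>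 Bool) (mRel MG [T_ui, T_w] [T_w, T_ui] M (Nat.sub (MG u) (Nat.mod (MG u) M)) (nat_lit 40) z1 u (Nat.mod (MG u) M)) (Bool.rec (motive := fun _ => Bool) (mRel MG [T_bi, T_w, T_b] [T_w] M (Nat.sub (MG u) (Nat.mod (MG u) M)) (nat_lit 40) z1 u (Nat.mod (MG u) M)) (mRel MG [T_v, T_u, T_vi] [T_u] M (Nat.sub (MG u) (Nat.mod (MG u) M)) (nat_lit 40) z1 u (Nat.mod (MG u) M)) (Nat.ble (nat_lit 24) j)) (Nat.ble (nat_lit 23) j)) (Nat.ble (nat_lit 22) j)) (Nat.ble (nat_lit 19) j)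
noncomputable def dM_4 (j z1 z2 u : ℕ) : Bool :=
  Bool.rec (motive := fun _ => Bool) (Bool.rec (motive := fun _ => Bool) (mRel MG [T_ai, T_c] [T_u, T_ai] M (Nat.sub (MG u) (Nat.mod (MG u) M)) (nat_lit 40) z1 u (Nat.mod (MG u) M)) (Bool.rec (motive := fun _ => Bool) (mRel MG [T_wi, T_u, T_w] [T_u] M (Nat.sub (MG u) (Nat.mod (MG u) M)) (nat_lit 40) z1 u (Nat.mod (MG u) M)) (mRel MG [T_vi, T_ui] [T_ui, T_vi] M (Nat.sub (MG u) (Nat.mod (MG u) M)) (nat_lit 40) z1 u (Nat.mod (MG u) M)) (Nat.ble (nat_lit 27) j)) (Nat.ble (nat_lit 26) j)) (Bool.rec (motive := fun _ => Bool) (Bool.rec (motive := fun _ => Bool) (mRel MG [T_ai] [T_w, T_w, T_ai, T_wi] M (Nat.sub (MG u) (Nat.mod (MG u) M)) (nat_lit 40) z1 u (Nat.mod (MG u) M)) (mRel MG [T_a, T_vi, T_ci, T_vi, T_bi, T_c, T_b, T_u, T_ci] [T_vi, T_a] M (Nat.sub (MG u) (Nat.mod (MG u) M)) (nat_lit 40) z1 u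 (Nat.mod (MG u) M)) (Nat.ble (nat_lit 29) j)) (Bool.rec (motive := fun _ => Bool) (mRel MG [T_ci, T_a, T_u] [T_a] M (Nat.sub (MG u) (Nat.mod (MG u) M)) (nat_lit 40) z1 u (Nat.mod (MG u) M)) (Bool.rec (motive := fun _ => Bool) (mRel MG [T_bi, T_vi] [T_ci, T_bi] M (Nat.sub (MG u) (Nat.mod (MG u) M)) (nat_lit 40) z1 u (Nat.mod (MG u) M)) (mRel MG [T_wi, T_v, T_w] [T_v] M (Nat.sub (MG u) (Nat.mod (MG u) M)) (nat_lit 40) z1 u (Nat.mod (MG u) M)) (Nat.ble (nat_lit 32) j)) (Nat.ble (nat_lit 31) j)) (Nat.ble (nat_lit 30) j)) (Nat.ble (nat_lit 28) j)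
noncomputable def dM_5 (j z1 z2 u : ℕ) : Bool :=
  Bool.rec (motive := fun _ => Bool) (Bool.rec (motive := fun _ => Bool) (Bool.rec (motive := fun _ => Bool) (mRel MG [T_bi, T_v, T_b] [T_c] M (Nat.sub (MG u) (Nat.mod (MG u) M)) (nat_lit 40) z1 u (Nat.mod (MG u) M)) (Bool.rec (motive := fun _ => Bool) (mRel MG [T_v, T_wi, T_vi] [T_wi] M (Nat.sub (MG u) (Nat.mod (MG u) M)) (nat_lit 40) z1 u (Nat.mod (MG u) M)) (mRel MG [T_wi, T_ci] [T_ci, T_wi] M (Nat.sub (MG u) (Nat.mod (MG u) M)) (nat_lit 40) z1 u (Nat.mod (MG u) M)) (Nat.ble (nat_lit 35) j)) (Nat.ble (nat_lit 34) j)) (Bool.rec (motive := fun _ => Bool) (mRel MG [T_c, T_v, T_wi, T_wi] [T_v, T_c] M (Nat.sub (MG u) (Nat.mod (MG u) M)) (nat_lit 40) z1 u (Nat.mod (MG u) M)) (Bool.rec (motive := fun _ => Bool) (mRel MG [T_wi, T_ui, T_w] [T_ui] M (Nat.sub (MG u) (Nat.mod (MG u) M)) (nat_lit 40) z1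 u (Nat.mod (MG u) M)) (mRel MG [T_a, T_bi, T_ci, T_ci, T_b, T_c] [T_bi, T_c, T_b, T_a, T_vi] M (Nat.sub (MG u) (Nat.mod (MG u) M)) (nat_lit 40) z1 u (Nat.mod (MG u) M)) (Nat.ble (nat_lit 38) j)) (Nat.ble (nat_lit 37) j)) (Nat.ble (nat_lit 36) j)) (Bool.rec (motive := fun _ => Bool) (Bool.rec (motive := fun _ => Bool) (mRel MG [T_b, T_c] [T_v, T_b] M (Nat.sub (MG u) (Nat.mod (MG u) M)) (nat_lit 40) z1 u (Nat.mod (MG u) M)) (Bool.rec (motive := fun _ => Bool) (mRel MG [T_c, T_w, T_ci] [T_w] M (Nat.sub (MG u) (Nat.mod (MG u) M)) (nat_lit 40) z1 u (Nat.mod (MG u) M)) (mRel MG [T_vi, T_u] [T_u, T_vi] M (Nat.sub (MG u) (Nat.mod (MG u) M)) (nat_lit 40) z1 u (Nat.mod (MG u) M)) (Nat.ble (nat_lit 41) j)) (Nat.ble (nat_lit 40) j)) (Bool.rec (motive := fun _ => Bool) (mRel MG [T_bi, T_v] [T_c, T_bi] M (Nat.sub (MG u) (Nat.mod (MG u) M)) (nat_lit 40) z1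 u (Nat.mod (MG u) M)) (Bool.rec (motive := fun _ => Bool) (mRel MG [T_v, T_w] [T_w, T_v] M (Nat.sub (MG u) (Nat.mod (MG u) M)) (nat_lit 40) z1 u (Nat.mod (MG u) M)) (mRel MG [T_u, T_w] [T_w, T_u] M (Nat.sub (MG u) (Nat.mod (MG u) M)) (nat_lit 40) z1 u (Nat.mod (MG u) M)) (Nat.ble (nat_lit 44) j)) (Nat.ble (nat_lit 43) j)) (Nat.ble (nat_lit 42) j)) (Nat.ble (nat_lit 39) j)
noncomputable def dM_6 (j z1 z2 u : ℕ) : Bool :=
  Bool.rec (motive := fun _ => Bool) (dM_4 j z1 z2 u) (dM_5 j z1 z2 u) (Nat.ble (nat_lit 33) j)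
noncomputable def dM_7 (j z1 z2 u : ℕ) : Bool :=
  Bool.rec (motive := fun _ => Bool) (dM_3 j z1 z2 u) (dM_6 j z1 z2 u) (Nat.ble (nat_lit 25) j)
noncomputable def dM_8 (j z1 z2 u : ℕ) : Bool :=
  Bool.rec (motive := fun _ => Bool) (Bool.rec (motive := fun _ => Bool) (Bool.rec (motive := fun _ => Bool) (mRel MG [T_v, T_w, T_vi] [T_w] M (Nat.sub (MG u) (Nat.mod (MG u) M)) (nat_lit 40) z1 u (Nat.mod (MG u) M)) (mRel MG [T_b, T_wi] [T_wi, T_b] M (Nat.sub (MG u) (Nat.mod (MG u) M)) (nat_lit 40) z1 u (Nat.mod (MG u) M)) (Nat.ble (nat_lit 46) j)) (Bool.rec (motive := fun _ => Bool) (mRel MG [T_a, T_a] [T_b, T_a, T_a, T_bi] M (Nat.sub (MG u) (Nat.mod (MG u) M)) (nat_lit 40) z1 u (Nat.mod (MG u) M)) (Bool.rec (motive := fun _ => Bool) (mRel MG [T_ui, T_bi, T_ci, T_b, T_u] [T_wi, T_bi, T_ci, T_b] M (Nat.sub (MG u) (Nat.mod (MG u) M)) (nat_lit 40) z1 u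 (Nat.mod (MG u) M)) (mRel MG [T_b, T_a, T_a] [T_a, T_a, T_b] M (Nat.sub (MG u) (Nat.mod (MG u) M)) (nat_lit 40) z1 u (Nat.mod (MG u) M)) (Nat.ble (nat_lit 49) j)) (Nat.ble (nat_lit 48) j)) (Nat.ble (nat_lit 47) j)) (Bool.rec (motive := fun _ => Bool) (Bool.rec (motive := fun _ => Bool) (mRel MG [T_v, T_u] [T_u, T_v] M (Nat.sub (MG u) (Nat.mod (MG u) M)) (nat_lit 40) z1 u (Nat.mod (MG u) M)) (Bool.rec (motive := fun _ => Bool) (mRel MG [T_wi, T_ai, T_w, T_a] [T_w] M (Nat.sub (MG u) (Nat.mod (MG u) M)) (nat_lit 40) z1 u (Nat.mod (MG u) M)) (mRel MG [T_ai, T_u, T_a] [T_ci, T_ci] M (Nat.sub (MG u) (Nat.mod (MG u) M)) (nat_lit 40) z1 u (Nat.mod (MG u) M)) (Nat.ble (nat_lit 52) j)) (Nat.ble (nat_lit 51) j)) (Bool.rec (motive := fun _ => Bool) (mRel MG [T_w, T_c] [T_c, T_w] M (Nat.sub (MG u) (Nat.mod (MG u) M)) (nat_lit 40) z1 u (Nat.mod (MG u) M))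 (Bool.rec (motive := fun _ => Bool) (mRel MG [T_w, T_ci, T_wi] [T_ci] M (Nat.sub (MG u) (Nat.mod (MG u) M)) (nat_lit 40) z1 u (Nat.mod (MG u) M)) (mRel MG [T_wi, T_v] [T_v, T_wi] M (Nat.sub (MG u) (Nat.mod (MG u) M)) (nat_lit 40) z1 u (Nat.mod (MG u) M)) (Nat.ble (nat_lit 55) j)) (Nat.ble (nat_lit 54) j)) (Nat.ble (nat_lit 53) j)) (Nat.ble (nat_lit 50) j)
noncomputable def dM_9 (j z1 z2 u : ℕ) : Bool :=
  Bool.rec (motive := fun _ => Bool) (Bool.rec (motive := fun _ => Bool) (Bool.rec (motive := fun _ => Bool) (mRel MG [T_ci, T_bi, T_v] [T_bi] M (Nat.sub (MG u) (Nat.mod (MG u) M)) (nat_lit 40) z1 u (Nat.mod (MG u) M)) (Bool.rec (motive := fun _ => Bool) (mRel MG [T_u, T_w, T_ui] [T_w] M (Nat.sub (MG u) (Nat.mod (MG u) M)) (nat_lit 40) z1 u (Nat.mod (MG u) M)) (mRel MG [T_c, T_wi] [T_wi, T_c] M (Nat.sub (MG u) (Nat.mod (MG u) M)) (nat_lit 40)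 z1 u (Nat.mod (MG u) M)) (Nat.ble (nat_lit 58) j)) (Nat.ble (nat_lit 57) j)) (Bool.rec (motive := fun _ => Bool) (mRel MG [T_wi, T_bi] [T_bi, T_wi] M (Nat.sub (MG u) (Nat.mod (MG u) M)) (nat_lit 40) z1 u (Nat.mod (MG u) M)) (Bool.rec (motive := fun _ => Bool) (mRel MG [T_v, T_ui] [T_ui, T_v] M (Nat.sub (MG u) (Nat.mod (MG u) M)) (nat_lit 40) z1 u (Nat.mod (MG u) M)) (mRel MG [T_b, T_w, T_bi] [T_w] M (Nat.sub (MG u) (Nat.mod (MG u) M)) (nat_lit 40) z1 u (Nat.mod (MG u) M)) (Nat.ble (nat_lit 61) j)) (Nat.ble (nat_lit 60) j)) (Nat.ble (nat_lit 59) j)) (Bool.rec (motive := fun _ => Bool) (Bool.rec (motive := fun _ => Bool) (mRel MG [T_w, T_ui, T_ci] [T_ci, T_ui] M (Nat.sub (MG u) (Nat.mod (MG u) M)) (nat_lit 40) z1 u (Nat.mod (MG u) M)) (Bool.rec (motive := fun _ => Bool) (mRel MG [T_ui, T_ai] [T_ai, T_ci] M (Nat.sub (MG u) (Nat.mod (MG u) M)) (nat_lit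 40) z1 u (Nat.mod (MG u) M)) (mRel MG [T_ci, T_w, T_c, T_wi] [] M (Nat.sub (MG u) (Nat.mod (MG u) M)) (nat_lit 40) z1 u (Nat.mod (MG u) M)) (Nat.ble (nat_lit 64) j)) (Nat.ble (nat_lit 63) j)) (Bool.rec (motive := fun _ => Bool) (mRel MG [T_w, T_ci, T_wi, T_c] [] M (Nat.sub (MG u) (Nat.mod (MG u) M)) (nat_lit 40) z1 u (Nat.mod (MG u) M)) (Bool.rec (motive := fun _ => Bool) (mRel MG [T_bi, T_ai, T_ai, T_b] [T_ai, T_ai] M (Nat.sub (MG u) (Nat.mod (MG u) M)) (nat_lit 40) z1 u (Nat.mod (MG u) M)) (mRel MG [T_u, T_wi, T_bi, T_ci, T_b] [T_bi, T_ci, T_b, T_u] M (Nat.sub (MG u) (Nat.mod (MG u) M)) (nat_lit 40) z1 u (Nat.mod (MG u) M)) (Nat.ble (nat_lit 67) j)) (Nat.ble (nat_lit 66) j)) (Nat.ble (nat_lit 65) j)) (Nat.ble (nat_lit 62) j)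
noncomputable def dM_10 (j z1 z2 u : ℕ) : Bool :=
  Bool.rec (motive := fun _ => Bool) (dM_8 j z1 z2 u) (dM_9 j z1 z2 u) (Nat.ble (nat_lit 56) j)
noncomputable def dM_11 (j z1 z2 u : ℕ) : Bool :=
  Bool.rec (motive := fun _ => Bool) (Bool.rec (motive := fun _ => Bool) (Bool.rec (motive := fun _ => Bool) (mRel MG [T_wi, T_c, T_w] [T_c] M (Nat.sub (MG u) (Nat.mod (MG u) M)) (nat_lit 40) z1 u (Nat.mod (MG u) M)) (Bool.rec (motive := fun _ => Bool) (mRel MG [T_wi, T_ui] [T_ui, T_wi] M (Nat.sub (MG u) (Nat.mod (MG u) M)) (nat_lit 40) z1 u (Nat.mod (MG u) M)) (mRel MG [T_u, T_ai] [T_ai, T_c] M (Nat.sub (MG u) (Nat.mod (MG u) M)) (nat_lit 40) z1 u (Nat.mod (MG u) M)) (Nat.ble (nat_lit 70) j)) (Nat.ble (nat_lit 69) j)) (Bool.rec (motive := fun _ => Bool) (mRel MG [T_w, T_ui] [T_ui, T_w] M (Nat.sub (MG u) (Nat.mod (MG u) M)) (nat_lit 40) z1 u (Nat.mod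 (MG u) M)) (Bool.rec (motive := fun _ => Bool) (mRel MG [T_ai, T_wi, T_a] [T_wi, T_wi] M (Nat.sub (MG u) (Nat.mod (MG u) M)) (nat_lit 40) z1 u (Nat.mod (MG u) M)) (mRel MG [T_w, T_ci] [T_ci, T_w] M (Nat.sub (MG u) (Nat.mod (MG u) M)) (nat_lit 40) z1 u (Nat.mod (MG u) M)) (Nat.ble (nat_lit 73) j)) (Nat.ble (nat_lit 72) j)) (Nat.ble (nat_lit 71) j)) (Bool.rec (motive := fun _ => Bool) (Bool.rec (motive := fun _ => Bool) (mRel MG [T_a, T_u] [T_c, T_a] M (Nat.sub (MG u) (Nat.mod (MG u) M)) (nat_lit 40) z1 u (Nat.mod (MG u) M)) (Bool.rec (motive := fun _ => Bool) (mRel MG [T_ci, T_a] [T_a, T_ui] M (Nat.sub (MG u) (Nat.mod (MG u) M)) (nat_lit 40) z1 u (Nat.mod (MG u) M)) (mRel MG [T_a, T_ui, T_ai] [T_ci] M (Nat.sub (MG u) (Nat.mod (MG u) M)) (nat_lit 40) z1 u (Nat.mod (MG u) M)) (Nat.ble (nat_lit 76) j)) (Nat.ble (nat_lit 75) j)) (Bool.rec (motive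 := fun _ => Bool) (mRel MG [T_w, T_ui, T_wi] [T_ui] M (Nat.sub (MG u) (Nat.mod (MG u) M)) (nat_lit 40) z1 u (Nat.mod (MG u) M)) (Bool.rec (motive := fun _ => Bool) (mRel MG [T_ci, T_wi] [T_wi, T_ci] M (Nat.sub (MG u) (Nat.mod (MG u) M)) (nat_lit 40) z1 u (Nat.mod (MG u) M)) (mRel MG [T_v, T_ui, T_vi] [T_ui] M (Nat.sub (MG u) (Nat.mod (MG u) M)) (nat_lit 40) z1 u (Nat.mod (MG u) M)) (Nat.ble (nat_lit 79) j)) (Nat.ble (nat_lit 78) j)) (Nat.ble (nat_lit 77) j)) (Nat.ble (nat_lit 74) j)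
noncomputable def dM_12 (j z1 z2 u : ℕ) : Bool :=
  Bool.rec (motive := fun _ => Bool) (Bool.rec (motive := fun _ => Bool) (Bool.rec (motive := fun _ => Bool) (mRel MG [T_ui, T_a, T_ci, T_ci] [T_a] M (Nat.sub (MG u) (Nat.mod (MG u) M)) (nat_lit 40) z1 u (Nat.mod (MG u) M)) (Bool.rec (motive := fun _ => Bool) (mRel MG [T_c, T_a] [T_a, T_u] M (Nat.sub (MG u) (Nat.mod (MG u) M)) (nat_lit 40) z1 u (Nat.mod (MG u) M)) (mRel MG [T_w, T_w, T_ai] [T_ai, T_w] M (Nat.sub (MG u) (Nat.mod (MG u) M)) (nat_lit 40) z1 u (Nat.mod (MG u) M)) (Nat.ble (nat_lit 82) j)) (Nat.ble (nat_lit 81) j)) (Bool.rec (motive := fun _ => Bool) (mRel MG [T_w] [T_v, T_w, T_vi] M (Nat.sub (MG u) (Nat.mod (MG u) M)) (nat_lit 40) z1 u (Nat.mod (MG u) M)) (Bool.rec (motive := fun _ => Bool) (mRel MG [T_a, T_ci, T_ci] [T_u, T_a] M (Nat.sub (MG u) (Nat.mod (MG u) M)) (nat_lit 40) z1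 u (Nat.mod (MG u) M)) (mRel MG [T_bi, T_wi] [T_wi, T_bi] M (Nat.sub (MG u) (Nat.mod (MG u) M)) (nat_lit 40) z1 u (Nat.mod (MG u) M)) (Nat.ble (nat_lit 85) j)) (Nat.ble (nat_lit 84) j)) (Nat.ble (nat_lit 83) j)) (Bool.rec (motive := fun _ => Bool) (Bool.rec (motive := fun _ => Bool) (mRel MG [T_ui, T_w, T_u] [T_w] M (Nat.sub (MG u) (Nat.mod (MG u) M)) (nat_lit 40) z1 u (Nat.mod (MG u) M)) (Bool.rec (motive := fun _ => Bool) (mRel MG [T_u, T_v] [T_v, T_u] M (Nat.sub (MG u) (Nat.mod (MG u) M)) (nat_lit 40) z1 u (Nat.mod (MG u) M)) (mRel MG [T_c, T_bi] [T_bi, T_v] M (Nat.sub (MG u) (Nat.mod (MG u) M)) (nat_lit 40) z1 u (Nat.mod (MG u) M)) (Nat.ble (nat_lit 88) j)) (Nat.ble (nat_lit 87) j)) (Bool.rec (motive := fun _ => Bool) (mRel MG [T_b, T_ci] [T_vi, T_b] M (Nat.sub (MG u) (Nat.mod (MG u) M)) (nat_lit 40) z1 u (Nat.mod (MG u) M)) (Bool.rec (motive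 := fun _ => Bool) (mRel MG [T_b, T_w] [T_w, T_b] M (Nat.sub (MG u) (Nat.mod (MG u) M)) (nat_lit 40) z1 u (Nat.mod (MG u) M)) (mRel MG [T_vi, T_wi, T_v] [T_wi] M (Nat.sub (MG u) (Nat.mod (MG u) M)) (nat_lit 40) z1 u (Nat.mod (MG u) M)) (Nat.ble (nat_lit 91) j)) (Nat.ble (nat_lit 90) j)) (Nat.ble (nat_lit 89) j)) (Nat.ble (nat_lit 86) j)
noncomputable def dM_13 (j z1 z2 u : ℕ) : Bool :=
  Bool.rec (motive := fun _ => Bool) (dM_11 j z1 z2 u) (dM_12 j z1 z2 u) (Nat.ble (nat_lit 80) j)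
noncomputable def dM_14 (j z1 z2 u : ℕ) : Bool :=
  Bool.rec (motive := fun _ => Bool) (dM_10 j z1 z2 u) (dM_13 j z1 z2 u) (Nat.ble (nat_lit 68) j)
noncomputable def dM_15 (j z1 z2 u : ℕ) : Bool :=
  Bool.rec (motive := fun _ => Bool) (dM_7 j z1 z2 u) (dM_14 j z1 z2 u) (Nat.ble (nat_lit 45) j)
noncomputable def dM_16 (j z1 z2 u : ℕ) : Bool :=
  Bool.rec (motive := fun _ => Bool) (dM_2 j z1 z2 u) (dM_15 j z1 z2 u) (Nat.ble (nat_lit 13) j)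
noncomputable def chkM (u : ℕ) : Bool :=
  Bool.rec (motive := fun _ => Bool) (band (Nat.ble (Nat.succ (Nat.mod (MG u) M)) u) (dM_16 (Nat.land (MR u) (nat_lit 127)) (Nat.land (Nat.shiftRight (MR u) (nat_lit 7)) (nat_lit 4095)) (Nat.shiftRight (MR u) (nat_lit 19)) u)) true (Nat.ble A (MG u))
noncomputable def chkN (u : ℕ) : Bool :=
  band (chk_a (Nat.land (Nat.shiftRight (RS u) (nat_lit 0)) (nat_lit 63)) u) (band (chk_ai (Nat.land (Nat.shiftRight (RS u) (nat_lit 6)) (nat_lit 63)) u) (band (chk_b (Nat.land (Nat.shiftRight (RS u) (nat_lit 12)) (nat_lit 63)) u) (band (chk_bi (Nat.land (Nat.shiftRight (RS u) (nat_lit 18)) (nat_lit 63)) u) (band (chk_c (Nat.land (Nat.shiftRight (RS u) (nat_lit 24)) (nat_lit 63)) u) (band (chk_ci (Nat.land (Nat.shiftRight (RS u) (nat_lit 30)) (nat_lit 63)) u) (band (chk_u (Nat.land (Nat.shiftRight (RS u) (nat_lit 36))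 (nat_lit 63)) u) (band (chk_ui (Nat.land (Nat.shiftRight (RS u) (nat_lit 42)) (nat_lit 63)) u) (band (chk_v (Nat.land (Nat.shiftRight (RS u) (nat_lit 48)) (nat_lit 63)) u) (band (chk_vi (Nat.land (Nat.shiftRight (RS u) (nat_lit 54)) (nat_lit 63)) u) (band (chk_w (Nat.land (Nat.shiftRight (RS u) (nat_lit 60)) (nat_lit 63)) u) (band (chk_wi (Nat.land (Nat.shiftRight (RS u) (nat_lit 66)) (nat_lit 63)) u) (chkM u))))))))))))
noncomputable def chkP (u : ℕ) : Bool := Bool.rec (motive := fun _ => Bool) (chkN u) true (Nat.ble M u)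
noncomputable def liveP (u : ℕ) : Bool := Bool.rec (motive := fun _ => Bool) (Nat.ble A (MG u)) false (Nat.ble M u)
end H34.TCLyB
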